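import Cfsg.Agent.Lib.BlockFour.Nilpotent
import Cfsg.Agent.Lib.SmallSection.AbelianRank

/-!
# Blocks with five characters and one simple module have no abelian defect group of order eight

* `card_of_free`: with trivial inertial quotient `k(B) = |P| l(B)`;
* `not_abelian_eight`.
-/

set_option autoImplicit false
set_option maxHeartbeats 1000000
set_option linter.style.haveILetI false

namespace Cfsg.Agent.BlockFive

open Cfsg Cfsg.Agent Cfsg.Agent.Blocks Cfsg.Agent.BrauerPairs Cfsg.Agent.LocalRank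
  Cfsg.Agent.SmallSection

variable {G : Type*} [Group G] [Finite G] {p : ℕ} [Fact p.Prime] {M : Ideal AlgInt}
  {B : Set (IrrCharacter G)} {P : Subgroup G}
  {e : Set (IrrCharacter (Subgroup.centralizer (P : Set G)))}

/-- The number of characters as a real sum over the defect group. -/
theorem card_real [Fintype P] (hM : IsPModular p M) (hmax : IsMaximalBrauerPair p M B P e)
    (hab : ∀ x ∈ P, ∀ y ∈ P, x * y = y * x) :
    (Nat.card B : ℝ) = ∑ v : P, ((Watanabe.orb M P e v).card : ℝ)⁻¹ *
      (lrank p M P e (Subgroup.zpowers (v : G)) : ℝ) := by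
  apply Complex.ofReal_injective
  rw [Complex.ofReal_natCast, Watanabe.card_eq_sum hM hmax hab, Complex.ofReal_sum]
  exact Finset.sum_congr rfl fun v _ => by simp [Watanabe.wt]

/-- With trivial inertial quotient every element of the defect group counts once. -/
theorem card_of_free (hM : IsPModular p M) (hmax : IsMaximalBrauerPair p M B P e)
    (hab : ∀ x ∈ P, ∀ y ∈ P, x * y = y * x)
    (hfree : ∀ t ∈ pairStab M P e, ∀ x ∈ P, t * x * t⁻¹ = x) :
    Nat.card B = Nat.card P * blockRank p B := by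
  classical
  have := Fintype.ofFinite P
  have h : (Nat.card B : ℝ) = ((Nat.card P * blockRank p B : ℕ) : ℝ) := by
    rw [card_real hM hmax hab, Finset.sum_congr rfl fun v _ => ?_, Finset.sum_const,
      Finset.card_univ, ← Nat.card_eq_fintype_card, Nat.cast_mul, nsmul_eq_mul]
    rw [Watanabe.rank_eq_of_fixed hM hmax hab v.2 fun t ht => hfree t ht v v.2,
      show Watanabe.orb M P e v = {v} from Finset.eq_singleton_iff_unique_mem.2
        ⟨Watanabe.self_mem_orb v, fun w hw => by
          obtain ⟨t, ht, hw⟩ := Watanabe.mem_orb.1 hw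
          exact Subtype.ext (hw.trans (hfree t ht v v.2))⟩]
    simp
  exact_mod_cast h

/-- An automorphism of odd order of a group of order eight fixing three elements is trivial. -/
theorem eq_one_of_fix_three {P : Type*} [Group P] [Finite P] (h8 : Nat.card P = 8)
    (g : MulAut P) {n : ℕ} (hg : g ^ n = 1) (hn : Odd n) {u v : P} (hu1 : u ≠ 1) (hv1 : v ≠ 1)
    (huv : u ≠ v) (hu : g u = u) (hv : g v = v) : g = 1 := by
  let S : Subgroup P := g.toMonoidHom.eqLocus (MonoidHom.id P)
  have hmem : ∀ {x : P}, x ∈ S ↔ g x = x := Iff.rfl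
  have h3 : 3 ≤ Nat.card S := by
    have hinj : Function.Injective (![1, ⟨u, hmem.2 hu⟩, ⟨v, hmem.2 hv⟩] : Fin 3 → S) := by
      intro i j h
      fin_cases i <;> fin_cases j <;>
        simp [Subtype.ext_iff, hu1, hv1, huv, hu1.symm, hv1.symm, huv.symm] at h ⊢
    simpa using Nat.card_le_card_of_injective _ hinj
  have hdvd : Nat.card S ∣ 8 := h8 ▸ Subgroup.card_subgroup_dvd_card S
  have hmul := S.card_mul_index
  rw [h8] at hmul
  refine MulEquiv.ext fun x => ?_
  by_cases hx : x ∈ S
  · exact hx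
  have hidx : S.index = 2 := by
    have hle : Nat.card S ≤ 8 := Nat.le_of_dvd (by norm_num) hdvd
    interval_cases h : Nat.card S <;> norm_num at hdvd
    · omega
    · exact absurd (Subgroup.eq_top_of_card_eq S (h.trans h8.symm) ▸ Subgroup.mem_top x) hx
  have hgx : g x ∉ S := fun h => hx (hmem.2 (g.injective (hmem.1 h)))
  have ha : x⁻¹ * g x ∈ S := (Subgroup.mul_mem_iff_of_index_two hidx).2 (by
    rw [S.inv_mem_iff]; exact ⟨fun h => absurd h hx, fun h => absurd h hgx⟩)
  set a := x⁻¹ * g x with hadef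
  have hpow : ∀ m : ℕ, (g ^ m) x = x * a ^ m := by
    intro m
    induction m with
    | zero => simp
    | succ m ih =>
      rw [pow_succ', MulAut.mul_apply, ih, map_mul, map_pow, hmem.1 ha, pow_succ' a, ← mul_assoc x a,
        hadef, mul_inv_cancel_left]
  have han : a ^ n = 1 := by
    have := hpow n
    rwa [hg, MulAut.one_apply, left_eq_mul] at this
  have ha1 : a = 1 := by
    have h1 : orderOf a ∣ n := orderOf_dvd_of_pow_eq_one han
    have h2 : orderOf a ∣ 2 ^ 3 := by
      have := orderOf_dvd_natCard (G := P) a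
      rwa [h8] at this
    rw [← orderOf_eq_one_iff]
    exact Nat.eq_one_of_dvd_coprimes ((Nat.coprime_two_right.2 hn).pow_right 3) h1 h2
  rw [MulAut.one_apply]
  exact (inv_mul_eq_one.1 (hadef ▸ ha1)).symm

/-- The block at an involution of an abelian defect group of order eight has rank at most three. -/
theorem lrank_le_three (hp : p = 2) (hM : IsPModular p M) (hmax : IsMaximalBrauerPair p M B P e)
    (hab : ∀ x ∈ P, ∀ y ∈ P, x * y = y * x) (h8 : Nat.card P = 8) {z : G} (hz : z ∈ P)
    (hoz : orderOf z = 2) : lrank p M P e (Subgroup.zpowers z) ≤ 3 := by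
  subst hp
  set H := Subgroup.centralizer (Subgroup.zpowers z : Set G) with hH
  obtain ⟨f, hf, hle⟩ := exists_subpair hM hmax.1.1 (Q := Subgroup.zpowers z)
    (Subgroup.zpowers_le.2 hz)
  rw [lrank_eq hM hmax.1.1 hle]
  obtain ⟨P', e', hmax', hmap, -, -⟩ :=
    Watanabe.exists_down hM hmax hab (Subgroup.zpowers_le.2 hz) hf hle
  have hdef : blockDefect 2 f = 3 := by
    refine Nat.pow_right_injective le_rfl ?_
    show 2 ^ _ = 2 ^ _
    rw [← card_maximal hM hmax', ← Subgroup.card_map_of_injective H.subtype_injective, hmap, h8]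
  let x' : H := ⟨z, SecondMain.mem_centralizer_zpowers_iff.2 (Commute.refl _)⟩
  have hxc : x' ∈ Subgroup.center H := Subgroup.mem_center_iff.2 fun h =>
    Subtype.ext (SecondMain.mem_centralizer_zpowers_iff.1 h.2).eq.symm
  set Z := Subgroup.zpowers x'
  have hZ : Z ≤ Subgroup.center H := Subgroup.zpowers_le.2 hxc
  have hZcard : Nat.card Z = 2 ^ 1 := by rw [Nat.card_zpowers, ← Subgroup.orderOf_coe, hoz, pow_one]
  haveI : Z.Normal := ⟨fun u hu c => by
    rwa [Subgroup.mem_center_iff.mp (hZ hu) c, mul_inv_cancel_right]⟩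
  have hZp : IsPGroup 2 Z := IsPGroup.of_card hZcard
  have hb' := isPBlock_quotBlock hM hZp hZ hf
  have hd' := blockDefect_quotBlock hM hZp hZ hf hZcard
  rw [hdef] at hd'
  rw [blockRank_quotBlock hM hZp hZ hf]
  have hk := (card_le_bounds hM hb' (d := 2) (by omega)).1 le_rfl
  obtain ⟨hlk, -, hiff⟩ := S4733.result 2 M hM _ hb'
  have hne : Nat.card (quotBlock Z f) ≠ blockRank 2 (quotBlock Z f) := fun h => by
    have := hiff.2 h
    omega
  rw [show (2 : ℕ) ^ 2 = 4 from rfl] at hk
  omega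

open scoped Classical in
/-- Odd orbits of size at least three on seven points form one orbit. -/
theorem card_orb_eq_seven [Fintype P] (h8 : Nat.card P = 8)
    (hodd : ∀ v : P, Odd (Watanabe.orb M P e v).card)
    (hne : ∀ v : P, v ≠ 1 → (Watanabe.orb M P e v).card ≠ 1) {v : P} (hv : v ≠ 1) :
    (Watanabe.orb M P e v).card = 7 := by
  let T : Finset P := Finset.univ.erase 1
  have hT : T.card = 7 := by
    rw [Finset.card_erase_of_mem (Finset.mem_univ _), Finset.card_univ, ← Nat.card_eq_fintype_card, h8]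
  have hge : ∀ {w}, w ∈ T → 3 ≤ (Watanabe.orb M P e w).card := fun {w} hw => by
    have h1 := hne w (Finset.mem_erase.1 hw).1
    obtain ⟨m, hm⟩ := hodd w
    omega
  have hsub : ∀ {w}, w ∈ T → Watanabe.orb M P e w ⊆ T := fun {w} hw x hx => by
    refine Finset.mem_erase.2 ⟨fun h1 => (Finset.mem_erase.1 hw).1 ?_, Finset.mem_univ _⟩
    obtain ⟨t, -, hx⟩ := Watanabe.mem_orb.1 hx
    rw [h1, OneMemClass.coe_one, eq_comm, conj_eq_one_iff] at hx
    exact Subtype.ext hx
  have hdis : ∀ {a b : P}, b ∉ Watanabe.orb M P e a →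
      Disjoint (Watanabe.orb M P e a) (Watanabe.orb M P e b) := fun {a b} hb =>
    Finset.disjoint_left.2 fun x hxa hxb => hb (by
      rw [← Watanabe.orb_eq hxa, Watanabe.orb_eq hxb]; exact Watanabe.self_mem_orb b)
  have hvT : v ∈ T := Finset.mem_erase.2 ⟨hv, Finset.mem_univ _⟩
  have hle := Finset.card_le_card (hsub hvT)
  by_contra h7
  obtain ⟨w, hwT, hw⟩ : ∃ w ∈ T, w ∉ Watanabe.orb M P e v :=
    Finset.exists_mem_notMem_of_card_lt_card (by omega)
  have hu := Finset.card_union_of_disjoint (hdis hw)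
  have hle2 := Finset.card_le_card (Finset.union_subset (hsub hvT) (hsub hwT))
  have h3v := hge hvT
  have h3w := hge hwT
  obtain ⟨i, hi⟩ := hodd v
  obtain ⟨j, hj⟩ := hodd w
  obtain ⟨x, hxT, hx⟩ : ∃ x ∈ T, x ∉ Watanabe.orb M P e v ∪ Watanabe.orb M P e w :=
    Finset.exists_mem_notMem_of_card_lt_card (by omega)
  rw [Finset.mem_union, not_or] at hx
  have hu2 := Finset.card_union_of_disjoint
    (Finset.disjoint_union_left.2 ⟨hdis hx.1, hdis hx.2⟩)
  have hle3 := Finset.card_le_card
    (Finset.union_subset (Finset.union_subset (hsub hvT) (hsub hwT)) (hsub hxT))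
  have := hge hxT
  omega

/-- No abelian defect group of order eight. -/
theorem not_abelian_eight (hM : IsPModular p M) (hmax : IsMaximalBrauerPair p M B P e)
    (h8 : Nat.card P = 8) (hl : blockRank p B = 1) (hk : Nat.card B = 5) :
    ¬ IsMulCommutative P := by
  intro hc
  haveI := hc
  classical
  have hp : p.Prime := Fact.out
  have := Fintype.ofFinite P
  have hab : ∀ x ∈ P, ∀ y ∈ P, x * y = y * x := fun x hx y hy =>
    congrArg Subtype.val (mul_comm' (⟨x, hx⟩ : P) ⟨y, hy⟩)
  have hp2 : p = 2 := by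
    obtain ⟨j, hj⟩ := hmax.1.1.1.exists_card_eq
    rw [h8] at hj
    exact ((Nat.prime_dvd_prime_iff_eq hp Nat.prime_two).1 (hp.dvd_of_dvd_pow (n := 3) (by
      rw [show (2 : ℕ) ^ 3 = 8 by norm_num, hj]
      exact dvd_pow_self p fun h0 => by rw [h0, pow_zero] at hj; omega)))
  obtain ⟨E, hE, hEt, hET⟩ := exists_inertial hM hmax
  have hEodd : Odd (Nat.card E) := Nat.odd_iff.2 (Nat.two_dvd_ne_zero.1 (hp2 ▸ hE))
  have horb : ∀ v : P, (Watanabe.orb M P e v).card = (MulAction.orbit E v).ncard := fun v => by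
    rw [← Set.ncard_coe_finset]
    refine congrArg Set.ncard (Set.ext fun w => ?_)
    rw [Finset.mem_coe, Watanabe.mem_orb, MulAction.mem_orbit_iff]
    constructor
    · rintro ⟨t, ht, hw⟩
      obtain ⟨g, hg, hgx, -⟩ := hET t ht
      exact ⟨⟨g, hg⟩, Subtype.ext ((hgx v).trans hw.symm)⟩
    · rintro ⟨⟨g, hg⟩, rfl⟩
      obtain ⟨t, ht, htx⟩ := hEt g hg
      exact ⟨t, ht, htx v⟩
  have hodd : ∀ v : P, Odd (Watanabe.orb M P e v).card := fun v => by
    rw [horb, ← MulAction.index_stabilizer]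
    exact hEodd.of_dvd_nat (Subgroup.index_dvd_card _)
  have hfixed : ∀ {v : P}, (∀ g ∈ E, g v = v) →
      ∀ t ∈ pairStab M P e, t * (v : G) * t⁻¹ = v := fun {v} hv t ht => by
    obtain ⟨g, hg, hgx, -⟩ := hET t ht
    rw [← hgx v, hv g hg]
  have hone : ∀ {v : P}, (Watanabe.orb M P e v).card = 1 → ∀ g ∈ E, g v = v := fun {v} h g hg => by
    obtain ⟨t, ht, htx⟩ := hEt g hg
    exact Finset.card_le_one.1 h.le _ (Watanabe.mem_orb.2 ⟨t, ht, htx v⟩) _ (Watanabe.self_mem_orb v)
  have hsum := card_real hM hmax hab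
  rw [hk] at hsum
  have hW1 : ((Watanabe.orb M P e (1 : P)).card : ℝ)⁻¹ *
      (lrank p M P e (Subgroup.zpowers ((1 : P) : G)) : ℝ) = 1 := by
    rw [show Watanabe.orb M P e (1 : P) = {1} from Finset.eq_singleton_iff_unique_mem.2
        ⟨Watanabe.self_mem_orb 1, fun w hw => by
          obtain ⟨t, -, hw⟩ := Watanabe.mem_orb.1 hw
          exact Subtype.ext (by rw [hw]; simp)⟩, OneMemClass.coe_one, lrank_one hM hmax, hl]
    simp
  rw [← Finset.add_sum_erase _ _ (Finset.mem_univ (1 : P)), hW1] at hsum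
  have hT : (Finset.univ.erase (1 : P)).card = 7 := by
    rw [Finset.card_erase_of_mem (Finset.mem_univ _), Finset.card_univ, ← Nat.card_eq_fintype_card, h8]
  by_cases hu : ∃ u : P, u ≠ 1 ∧ ∀ g ∈ E, g u = u
  · obtain ⟨u, hu1, hu⟩ := hu
    have hfree : ¬ ∀ g ∈ E, g = 1 := fun hall => by
      have h := card_of_free hM hmax hab fun t ht x hx => by
        obtain ⟨g, hg, hgx, -⟩ := hET t ht
        simpa [hall g hg] using (hgx ⟨x, hx⟩).symm
      rw [h8, hl, hk] at h
      omega
    have htriv : ∀ {v : P}, v ≠ 1 → v ≠ u → ∀ g ∈ E, g v = v → g = 1 := fun {v} hv1 hvu g hg hgv =>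
      eq_one_of_fix_three h8 g (n := Nat.card E)
        (congrArg Subtype.val (pow_card_eq_one' (x := (⟨g, hg⟩ : E)))) hEodd hu1 hv1 (Ne.symm hvu)
        (hu g hg) hgv
    have huW : ((Watanabe.orb M P e u).card : ℝ)⁻¹ *
        (lrank p M P e (Subgroup.zpowers (u : G)) : ℝ) = 1 := by
      rw [Watanabe.rank_eq_of_fixed hM hmax hab u.2 (hfixed hu), hl,
        show Watanabe.orb M P e u = {u} from Finset.eq_singleton_iff_unique_mem.2
          ⟨Watanabe.self_mem_orb u, fun w hw => by
            obtain ⟨t, ht, hw⟩ := Watanabe.mem_orb.1 hw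
            exact Subtype.ext (hw.trans (hfixed hu t ht))⟩]
      simp
    have hW : ∀ v ∈ (Finset.univ.erase (1 : P)).erase u, ((Watanabe.orb M P e v).card : ℝ)⁻¹ *
        (lrank p M P e (Subgroup.zpowers (v : G)) : ℝ) ≤ 1 / 3 := by
      intro v hv
      have hvu := (Finset.mem_erase.1 hv).1
      have hv1 := (Finset.mem_erase.1 (Finset.mem_erase.1 hv).2).1
      have h3 : 3 ≤ (Watanabe.orb M P e v).card := by
        have hne1 : (Watanabe.orb M P e v).card ≠ 1 := fun h =>
          hfree fun g hg => htriv hv1 hvu g hg (hone h g hg)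
        obtain ⟨m, hm⟩ := hodd v
        omega
      obtain ⟨f, hf, hle⟩ := exists_subpair hM hmax.1.1 (Q := Subgroup.zpowers (v : G))
        (Subgroup.zpowers_le.2 v.2)
      rw [lrank_eq hM hmax.1.1 hle, blockRank_below_eq_one hM hmax hab v.2 (fun t ht htv => by
        obtain ⟨g, hg, hgx, hg1⟩ := hET t ht
        exact hg1 (htriv hv1 hvu g hg (Subtype.ext ((hgx v).trans htv)))) hf hle, Nat.cast_one,
        mul_one, one_div]
      exact inv_anti₀ (by norm_num) (by exact_mod_cast h3)
    have hmem : u ∈ Finset.univ.erase (1 : P) := Finset.mem_erase.2 ⟨hu1, Finset.mem_univ _⟩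
    rw [← Finset.add_sum_erase _ _ hmem, huW] at hsum
    have hle := Finset.sum_le_sum hW
    rw [Finset.sum_const, Finset.card_erase_of_mem hmem, hT, nsmul_eq_mul] at hle
    norm_num at hsum hle
    linarith
  · push Not at hu
    have hne : ∀ v : P, v ≠ 1 → (Watanabe.orb M P e v).card ≠ 1 := fun v hv h => by
      obtain ⟨g, hg, hgv⟩ := hu v hv
      exact hgv (hone h g hg)
    obtain ⟨u, hu2⟩ := exists_prime_orderOf_dvd_card' (G := P) 2 (by rw [h8]; norm_num)
    have hu1 : u ≠ 1 := fun h => by rw [h, orderOf_one] at hu2; omega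
    have hinv : ∀ v : P, v ≠ 1 → orderOf (v : G) = 2 := fun v hv => by
      have h7 := card_orb_eq_seven h8 hodd hne hu1
      have hsub : Watanabe.orb M P e u ⊆ Finset.univ.erase 1 := fun x hx => by
        refine Finset.mem_erase.2 ⟨fun h1 => hu1 ?_, Finset.mem_univ _⟩
        obtain ⟨t, -, hx⟩ := Watanabe.mem_orb.1 hx
        rw [h1, OneMemClass.coe_one, eq_comm, conj_eq_one_iff] at hx
        exact Subtype.ext hx
      have hmem : v ∈ Watanabe.orb M P e u := by
        rw [Finset.eq_of_subset_of_card_le hsub (by omega)]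
        exact Finset.mem_erase.2 ⟨hv, Finset.mem_univ _⟩
      obtain ⟨t, -, hv'⟩ := Watanabe.mem_orb.1 hmem
      rw [hv', ← MulAut.conj_apply, MulEquiv.orderOf_eq, Subgroup.orderOf_coe, hu2]
    have hW : ∀ v ∈ Finset.univ.erase (1 : P), ((Watanabe.orb M P e v).card : ℝ)⁻¹ *
        (lrank p M P e (Subgroup.zpowers (v : G)) : ℝ) ≤ 3 / 7 := by
      intro v hv
      have hv1 := (Finset.mem_erase.1 hv).1
      rw [card_orb_eq_seven h8 hodd hne hv1, inv_mul_eq_div]
      have : (lrank p M P e (Subgroup.zpowers (v : G)) : ℝ) ≤ 3 := by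
        exact_mod_cast lrank_le_three hp2 hM hmax hab h8 v.2 (hinv v hv1)
      gcongr
      norm_num
    have hle := Finset.sum_le_sum hW
    rw [Finset.sum_const, hT, nsmul_eq_mul] at hle
    norm_num at hsum hle
    linarith

end Cfsg.Agent.BlockFive
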