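import Cfsg.Agent.Lib.BlockFour.Local

/-!
# The layers of a local symmetric algebra

For a nilpotent non-unital subalgebra `J` with last non-zero power `J ^ n` and a symmetric form
`τ` not vanishing there:

* `IsLine.succ`: a layer spanned by one element is followed by such layers;
* `IsLine.commute`: if `J ^ (n - 1)` is spanned by one element modulo `J ^ n`, the form
  `τ (x * y * u)` is symmetric in `x, y`;
* `commSpan_le`: the commutators in terms of generators.
-/

set_option autoImplicit false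

namespace Cfsg.Agent.BlockFive

open Module Cfsg.Agent.BlockFour

variable {k : Type*} [Field k] {A : Type*} [Ring A] [Algebra k A]

/-- The commutators of members of `J`. -/
abbrev commSpan (J : Submodule k A) : Submodule k A :=
  Submodule.span k {z | ∃ x ∈ J, ∃ y ∈ J, z = x * y - y * x}

/-- The commutator with a fixed element. -/
def brL (x : A) : A →ₗ[k] A := LinearMap.mulLeft k x - LinearMap.mulRight k x

theorem brL_apply (x y : A) : brL (k := k) x y = x * y - y * x := rfl

/-- The `m`-th layer is spanned by one element. -/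
def IsLine (J : Submodule k A) (m : ℕ) : Prop :=
  ∃ w, J ^ m ≤ Submodule.span k {w} ⊔ J ^ (m + 1)

/-- The standing hypotheses. -/
structure Deep (J : Submodule k A) (τ : Dual k A) (n : ℕ) : Prop where
  hJJ : J * J ≤ J
  top : J ^ (n + 1) = ⊥
  symm : ∀ a b, τ (a * b) = τ (b * a)
  nonzero : ∃ v ∈ J ^ n, τ v ≠ 0
  five : 5 ≤ n

variable {J : Submodule k A} {τ : Dual k A} {n : ℕ}

theorem Deep.mono (hd : Deep J τ n) {i j : ℕ} (hi : 1 ≤ i) (hij : i ≤ j) : J ^ j ≤ J ^ i :=
  pow_le_pow_of_mul_le hd.hJJ hi hij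

theorem Deep.mul_eq_zero (hd : Deep J τ n) {i j : ℕ} {x y : A} (hx : x ∈ J ^ i) (hy : y ∈ J ^ j)
    (hij : n + 1 ≤ i + j) : x * y = 0 := by
  have h := hd.mono (Nat.le_add_left 1 n) hij (mul_mem_pow_add hx hy)
  rw [hd.top] at h
  exact (Submodule.mem_bot k).mp h

theorem mem_pow_one {x : A} (hx : x ∈ J) : x ∈ J ^ 1 := by rwa [pow_one]

theorem mul_mem_two {x y : A} (hx : x ∈ J) (hy : y ∈ J) : x * y ∈ J ^ 2 :=
  mul_mem_pow_add (mem_pow_one hx) (mem_pow_one hy)

theorem pow_mem {x : A} (hx : x ∈ J) (m : ℕ) : x ^ (m + 1) ∈ J ^ (m + 1) := by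
  induction m with
  | zero => simpa using hx
  | succ m ih => rw [pow_succ x, pow_succ J]; exact Submodule.mul_mem_mul ih hx

theorem IsLine.succ (hJJ : J * J ≤ J) {m : ℕ} (hm : 2 ≤ m) (h : IsLine J m) : IsLine J (m + 1) := by
  obtain ⟨w, hw⟩ := h
  by_cases hle : J ^ m ≤ J ^ (m + 1)
  · refine ⟨0, le_sup_of_le_right ?_⟩
    rw [pow_succ, pow_succ J (m + 1)]
    exact mul_le_mul' hle le_rfl
  obtain ⟨m, rfl⟩ : ∃ l, m = l + 1 := ⟨m - 1, by omega⟩
  obtain ⟨g, hg, h, hh, hgh⟩ : ∃ g ∈ J, ∃ h ∈ J ^ m, g * h ∉ J ^ (m + 1 + 1) := by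
    by_contra hcon
    push Not at hcon
    rw [pow_succ' J m] at hle
    exact hle (Submodule.mul_le.mpr hcon)
  have hghm : g * h ∈ J ^ (m + 1) := by rw [pow_succ']; exact Submodule.mul_mem_mul hg hh
  have hline : J ^ (m + 1) ≤ Submodule.span k {g * h} ⊔ J ^ (m + 1 + 1) := by
    obtain ⟨u, hu, r, hr, he⟩ := Submodule.mem_sup.mp (hw hghm)
    obtain ⟨t, rfl⟩ := Submodule.mem_span_singleton.mp hu
    have ht : t ≠ 0 := fun h0 => hgh (by rw [← he, h0, zero_smul, zero_add]; exact hr)
    refine hw.trans (sup_le ((Submodule.span_singleton_le_iff_mem _ _).mpr ?_) le_sup_right)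
    have : w = t⁻¹ • (g * h) + (-t⁻¹) • r := by
      rw [← he, smul_add, smul_smul, inv_mul_cancel₀ ht, one_smul, neg_smul, add_neg_cancel_right]
    rw [this]
    exact Submodule.add_mem_sup (Submodule.smul_mem _ _ (Submodule.mem_span_singleton_self _))
      (Submodule.smul_mem _ _ hr)
  refine ⟨g * (g * h), ?_⟩
  rw [pow_succ J (m + 1)]
  refine Submodule.mul_le.mpr fun v hv x hx => ?_
  obtain ⟨u, hu, r, hr, rfl⟩ := Submodule.mem_sup.mp (hline hv)
  obtain ⟨t, rfl⟩ := Submodule.mem_span_singleton.mp hu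
  have hhx : h * x ∈ J ^ (m + 1) := by rw [pow_succ]; exact Submodule.mul_mem_mul hh hx
  obtain ⟨u, hu, r', hr', he⟩ := Submodule.mem_sup.mp (hline hhx)
  obtain ⟨t', rfl⟩ := Submodule.mem_span_singleton.mp hu
  rw [add_mul, smul_mul_assoc, mul_assoc g h x, ← he]
  simp only [mul_add, mul_smul_comm, smul_add, smul_smul, add_assoc]
  refine Submodule.add_mem_sup (Submodule.smul_mem _ _ (Submodule.mem_span_singleton_self _))
    (add_mem (Submodule.smul_mem _ _ ?_) ?_)
  · rw [show m + (1 + (1 + 1)) = 1 + (m + 1 + 1) by omega]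
    exact mul_mem_pow_add (mem_pow_one hg) hr'
  · rw [show m + (1 + (1 + 1)) = (m + 1 + 1) + 1 by omega]
    exact mul_mem_pow_add hr (mem_pow_one hx)

theorem IsLine.mono (hJJ : J * J ≤ J) {m m' : ℕ} (hm : 2 ≤ m) (hmm : m ≤ m') (h : IsLine J m) :
    IsLine J m' := by
  induction m', hmm using Nat.le_induction with
  | base => exact h
  | succ l hl ih => exact ih.succ hJJ (hm.trans hl)

/-- The form on a line in the last but one layer. -/
theorem IsLine.factor (hd : Deep J τ n) (h : IsLine J (n - 1)) :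
    ∃ g ∈ J, ∃ w, τ (g * w) ≠ 0 ∧
      ∀ x ∈ J, ∀ v ∈ J ^ (n - 1), τ (x * v) * τ (g * w) = τ (x * w) * τ (g * v) := by
  obtain ⟨w, hw⟩ := h
  have hn := hd.five
  have hsplit : ∀ v ∈ J ^ (n - 1), ∃ t : k, ∀ x ∈ J, τ (x * v) = t * τ (x * w) := by
    intro v hv
    obtain ⟨u, hu, r, hr, rfl⟩ := Submodule.mem_sup.mp (hw hv)
    obtain ⟨t, rfl⟩ := Submodule.mem_span_singleton.mp hu
    refine ⟨t, fun x hx => ?_⟩
    rw [mul_add, map_add, hd.mul_eq_zero (mem_pow_one hx) hr (by omega), map_zero, add_zero,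
      mul_smul_comm, map_smul, smul_eq_mul]
  obtain ⟨g, hg, hgw⟩ : ∃ g ∈ J, τ (g * w) ≠ 0 := by
    by_contra hcon
    push Not at hcon
    obtain ⟨v, hv, hv0⟩ := hd.nonzero
    refine hv0 ?_
    rw [show n = n - 1 + 1 by omega, pow_succ'] at hv
    exact (Submodule.mul_le.mpr fun x hx y hy => by
      obtain ⟨t, ht⟩ := hsplit y hy
      rw [LinearMap.mem_ker, ht x hx, hcon x hx, mul_zero] : J * J ^ (n - 1) ≤ LinearMap.ker τ) hv
  refine ⟨g, hg, w, hgw, fun x hx v hv => ?_⟩
  obtain ⟨t, ht⟩ := hsplit v hv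
  rw [ht x hx, ht g hg]
  ring

/-- A line in the last but one layer makes the top products commutative. -/
theorem IsLine.commute (hd : Deep J τ n) (h : IsLine J (n - 1)) {x y u : A} (hx : x ∈ J) (hy : y ∈ J)
    (hu : u ∈ J ^ (n - 2)) : τ ((x * y - y * x) * u) = 0 := by
  obtain ⟨g, hg, w, hgw, hfac⟩ := h.factor hd
  have hn := hd.five
  have hmem : ∀ {z : A}, z ∈ J → z * u ∈ J ^ (n - 1) ∧ u * z ∈ J ^ (n - 1) := fun hz => by
    rw [show n - 1 = 1 + (n - 2) by omega]
    refine ⟨mul_mem_pow_add (mem_pow_one hz) hu, ?_⟩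
    rw [add_comm]
    exact mul_mem_pow_add hu (mem_pow_one hz)
  have hkey : ∀ {x y : A}, x ∈ J → y ∈ J →
      τ (x * y * u) * τ (g * w) * τ (g * w) = τ (x * w) * τ (y * w) * τ (g * (u * g)) := by
    intro x y hx hy
    rw [mul_assoc x, hfac x hx _ (hmem hy).1, mul_assoc, hd.symm g, mul_assoc y u g,
      hfac y hy _ (hmem hg).2, mul_assoc]
  have h1 := hkey hx hy
  rw [mul_comm (τ (x * w)), ← hkey hy hx] at h1
  rw [sub_mul, map_sub, sub_eq_zero]
  exact mul_right_cancel₀ hgw (mul_right_cancel₀ hgw h1)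

/-- Products of commutators with one factor deeper vanish at the top. -/
theorem IsLine.commute_deep (hd : Deep J τ n) (h : IsLine J (n - 1)) {x u : A} (hx : x ∈ J)
    (hu : u ∈ J ^ (n - 3)) {z : A} (hz : z ∈ J ^ 2) : τ ((x * z - z * x) * u) = 0 := by
  have hn := hd.five
  have hle : J ^ 2 ≤ LinearMap.ker (τ.comp ((LinearMap.mulRight k u).comp (brL (k := k) x))) := by
    rw [pow_two]
    refine Submodule.mul_le.mpr fun y hy z hz => ?_
    rw [LinearMap.mem_ker, LinearMap.comp_apply, LinearMap.comp_apply, LinearMap.mulRight_apply,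
      brL_apply, show (x * (y * z) - y * z * x) * u = (x * y - y * x) * (z * u) +
        y * ((x * z - z * x) * u) by simp only [sub_mul, mul_sub, ← mul_assoc]; abel,
      map_add, h.commute hd hx hy, zero_add, hd.symm y, mul_assoc, h.commute hd hx hz]
    · rw [show n - 2 = (n - 3) + 1 by omega]
      exact mul_mem_pow_add hu (mem_pow_one hy)
    · rw [show n - 2 = 1 + (n - 3) by omega]
      exact mul_mem_pow_add (mem_pow_one hz) hu
  exact hle hz

/-- If the second layer consists of commutators, the last but one layer is no line. -/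
theorem not_line_of_commutators (hd : Deep J τ n) (hJ : J ^ 2 ≤ commSpan J ⊔ J ^ 3) :
    ¬ IsLine J (n - 1) := fun h => by
  obtain ⟨v, hv, hv0⟩ := hd.nonzero
  have hn := hd.five
  refine hv0 ?_
  rw [show n = 2 + (n - 2) by omega, pow_add] at hv
  exact (Submodule.mul_le.mpr fun x hx u hu => by
    obtain ⟨κ, hκ, r, hr, rfl⟩ := Submodule.mem_sup.mp (hJ hx)
    rw [LinearMap.mem_ker, add_mul, map_add, hd.mul_eq_zero hr hu (by omega), map_zero, add_zero]
    exact (Submodule.span_le.mpr (by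
      rintro _ ⟨a, ha, b, hb, rfl⟩
      show τ (LinearMap.mulRight k u (a * b - b * a)) = 0
      exact h.commute hd ha hb hu) :
        commSpan J ≤ LinearMap.ker (τ.comp (LinearMap.mulRight k u))) hκ :
    J ^ 2 * J ^ (n - 2) ≤ LinearMap.ker τ) hv

/-- With a line from the second layer on, the powers of one element give all layers. -/
theorem IsLine.exists_power (hd : Deep J τ n) (h : IsLine J 2) :
    ∃ g ∈ J, g ∉ J ^ 2 ∧
      ∀ m, 2 ≤ m → m < n → J ^ m ≤ Submodule.span k {g ^ m} ⊔ J ^ (m + 1) := by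
  have hn := hd.five
  obtain ⟨g, hg, w, hgw, hfac⟩ := (h.mono hd.hJJ le_rfl (show 2 ≤ n - 1 by omega)).factor hd
  have hpow : ∀ i, 1 ≤ i → g ^ i ∈ J ^ i := fun i hi => by
    obtain ⟨i, rfl⟩ : ∃ l, i = l + 1 := ⟨i - 1, by omega⟩
    exact pow_mem hg i
  have htop : τ (g ^ n) ≠ 0 := by
    intro h0
    have hall : ∀ j, j + 1 ≤ n → J ^ (j + 1) ≤
        LinearMap.ker (τ.comp (LinearMap.mulRight k (g ^ (n - (j + 1))))) := by
      intro j
      induction j with
      | zero =>
        intro _ v hv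
        rw [zero_add, pow_one] at hv
        show τ (v * g ^ (n - (0 + 1))) = 0
        refine (mul_eq_zero.mp ?_).resolve_right hgw
        rw [hfac v hv _ (hpow _ (by omega)), ← pow_succ', show n - (0 + 1) + 1 = n by omega, h0,
          mul_zero]
      | succ j ih =>
        intro hj
        rw [pow_succ' J]
        refine Submodule.mul_le.mpr fun x hx v hv => ?_
        show τ (x * v * g ^ (n - (j + 1 + 1))) = 0
        refine (mul_eq_zero.mp ?_).resolve_right hgw
        have hmem : v * g ^ (n - (j + 1 + 1)) ∈ J ^ (n - 1) := by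
          rcases Nat.eq_or_lt_of_le hj with he | hlt
          · rw [show n - (j + 1 + 1) = 0 by omega, pow_zero, mul_one]
            rwa [show n - 1 = j + 1 by omega]
          · rw [show n - 1 = (j + 1) + (n - (j + 1 + 1)) by omega]
            exact mul_mem_pow_add hv (hpow _ (by omega))
        rw [mul_assoc x, hfac x hx _ hmem, hd.symm g, mul_assoc, ← pow_succ,
          show n - (j + 1 + 1) + 1 = n - (j + 1) by omega]
        have := ih (by omega) hv
        simp only [LinearMap.mem_ker, LinearMap.comp_apply, LinearMap.mulRight_apply] at this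
        rw [this, mul_zero]
    obtain ⟨v, hv, hv0⟩ := hd.nonzero
    have := hall (n - 1) (by omega) (show v ∈ J ^ (n - 1 + 1) by rwa [show n - 1 + 1 = n by omega])
    simp [show n - (n - 1 + 1) = 0 by omega] at this
    exact hv0 this
  have hout : ∀ i, 1 ≤ i → i < n → g ^ i ∉ J ^ (i + 1) := fun i hi hin hmem => htop (by
    rw [show n = i + (n - i) by omega, pow_add, hd.mul_eq_zero hmem (hpow _ (by omega)) (by omega),
      map_zero])
  refine ⟨g, hg, fun hg2 => hout 1 le_rfl (by omega) (by rwa [pow_one]), fun m hm hmn => ?_⟩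
  obtain ⟨u, hu⟩ := h.mono hd.hJJ le_rfl hm
  obtain ⟨v, hv, r, hr, he⟩ := Submodule.mem_sup.mp (hu (hpow m (by omega)))
  obtain ⟨t, rfl⟩ := Submodule.mem_span_singleton.mp hv
  have ht : t ≠ 0 := fun h0 => hout m (by omega) hmn (by rw [← he, h0, zero_smul, zero_add]; exact hr)
  refine hu.trans (sup_le ((Submodule.span_singleton_le_iff_mem _ _).mpr ?_) le_sup_right)
  have : u = t⁻¹ • g ^ m + (-t⁻¹) • r := by
    rw [← he, smul_add, smul_smul, inv_mul_cancel₀ ht, one_smul, neg_smul, add_neg_cancel_right]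
  rw [this]
  exact Submodule.add_mem_sup (Submodule.smul_mem _ _ (Submodule.mem_span_singleton_self _))
    (Submodule.smul_mem _ _ hr)

/-- The commutators, from generators. -/
theorem commSpan_le (hJJ : J * J ≤ J) {ι : Type*} [Fintype ι] (e : ι → A) (he : ∀ i, e i ∈ J)
    (hgen : J ≤ Submodule.span k (Set.range e) ⊔ J ^ 2) (W : Submodule k A)
    (hW : ∀ i, ∀ h ∈ J ^ 2, e i * h - h * e i ∈ W) (h5 : J ^ 5 ≤ W) :
    commSpan J ≤ Submodule.span k {z | ∃ i j, z = e i * e j - e j * e i} ⊔ W := by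
  classical
  have hsplit : ∀ x ∈ J, ∃ c : ι → k, ∃ h ∈ J ^ 2, x = (∑ i, c i • e i) + h := fun x hx => by
    obtain ⟨u, hu, h, hh, rfl⟩ := Submodule.mem_sup.mp (hgen hx)
    obtain ⟨c, rfl⟩ := (Submodule.mem_span_range_iff_exists_fun k).mp hu
    exact ⟨c, h, hh, rfl⟩
  have hlin : ∀ x ∈ J, ∀ h ∈ J ^ 3, brL (k := k) x h ∈ W := by
    intro x hx h hh
    obtain ⟨c, g, hg, rfl⟩ := hsplit x hx
    have h2 : h ∈ J ^ 2 := pow_le_pow_of_mul_le hJJ (by omega) (by omega) hh
    rw [brL_apply, add_mul, mul_add, add_sub_add_comm, Finset.sum_mul, Finset.mul_sum,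
      ← Finset.sum_sub_distrib]
    refine W.add_mem (W.sum_mem fun i _ => ?_) (W.sub_mem (h5 ?_) (h5 ?_))
    · rw [smul_mul_assoc, mul_smul_comm, ← smul_sub]
      exact W.smul_mem _ (hW i h h2)
    · exact mul_mem_pow_add hg hh
    · exact mul_mem_pow_add hh hg
  have hdeep : ∀ h ∈ J ^ 2, ∀ g ∈ J ^ 2, h * g - g * h ∈ W := by
    intro h hh g hg
    have hle : J ^ 2 ≤ W.comap (-brL (k := k) g) := by
      rw [pow_two]
      refine Submodule.mul_le.mpr fun x hx y hy => ?_
      rw [Submodule.mem_comap, LinearMap.neg_apply, brL_apply, show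
        -(g * (x * y) - x * y * g) = brL (k := k) x (y * g) + brL (k := k) y (g * x) by
          simp only [brL_apply, ← mul_assoc]; abel]
      exact W.add_mem (hlin x hx _ (mul_mem_pow_add (mem_pow_one hy) hg))
        (hlin y hy _ (mul_mem_pow_add hg (mem_pow_one hx)))
    have := hle hh
    rwa [Submodule.mem_comap, LinearMap.neg_apply, brL_apply, neg_sub] at this
  refine Submodule.span_le.mpr ?_
  rintro _ ⟨x, hx, y, hy, rfl⟩
  obtain ⟨a, g, hg, rfl⟩ := hsplit x hx
  obtain ⟨b, h, hh, rfl⟩ := hsplit y hy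
  have key : ((∑ i, a i • e i) + g) * ((∑ i, b i • e i) + h) -
      ((∑ i, b i • e i) + h) * ((∑ i, a i • e i) + g) =
      (∑ i, ∑ j, (a i * b j) • (e i * e j - e j * e i)) +
        ((∑ i, a i • (e i * h - h * e i)) - (∑ j, b j • (e j * g - g * e j)) + (g * h - h * g)) := by
    have e1 : (∑ i, ∑ j, (a i * b j) • (e i * e j - e j * e i)) =
        (∑ i, a i • e i) * (∑ j, b j • e j) - (∑ j, b j • e j) * (∑ i, a i • e i) := by
      rw [Finset.sum_mul_sum, Finset.sum_mul_sum, Finset.sum_comm (f := fun j i => b j • e j * a i • e i),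
        ← Finset.sum_sub_distrib]
      refine Finset.sum_congr rfl fun i _ => ?_
      rw [← Finset.sum_sub_distrib]
      exact Finset.sum_congr rfl fun j _ => by
        simp only [smul_sub, smul_mul_assoc, mul_smul_comm, smul_smul, mul_comm (b j)]
    have e2 : ∀ (c : ι → k) (z : A), (∑ i, c i • (e i * z - z * e i)) =
        (∑ i, c i • e i) * z - z * ∑ i, c i • e i := fun c z => by
      simp only [Finset.sum_mul, Finset.mul_sum, smul_sub, smul_mul_assoc, mul_smul_comm,
        Finset.sum_sub_distrib]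
    rw [e1, e2, e2]
    simp only [add_mul, mul_add]
    abel
  rw [key]
  refine Submodule.add_mem_sup (Submodule.sum_mem _ fun i _ => Submodule.sum_mem _ fun j _ =>
    Submodule.smul_mem _ _ (Submodule.subset_span ⟨i, j, rfl⟩))
    (W.add_mem (W.sub_mem (W.sum_mem fun i _ => W.smul_mem _ (hW i h hh))
      (W.sum_mem fun j _ => W.smul_mem _ (hW j g hg))) (hdeep g hg h hh))

end Cfsg.Agent.BlockFive
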