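import Cfsg.Agent.Lib.BlockFive.ThreeGen

/-!
# Local symmetric algebras with five independent trace forms

`finrank_le_of_local`: a local symmetric algebra, given as a corner `L` with radical `J`, has
dimension at most eleven when the commutators leave a complement of dimension at most five.
-/

set_option autoImplicit false
set_option maxSynthPendingDepth 3

namespace Cfsg.Agent.BlockFive

open Module Cfsg.Agent.BlockFour

variable {k : Type*} [Field k] {A : Type*} [Ring A] [Algebra k A]

/-- Generators modulo a subspace of small codimension. -/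
theorem exists_generators [FiniteDimensional k A] {J : Submodule k A} :
    ∀ (d : ℕ) (J' : Submodule k A), J' ≤ J → finrank k J ≤ finrank k J' + d →
      ∃ e : Fin d → A, (∀ i, e i ∈ J) ∧ J ≤ Submodule.span k (Set.range e) ⊔ J'
  | 0, J', hle, hd => ⟨Fin.elim0, fun i => i.elim0,
      le_sup_of_le_right (Submodule.eq_of_le_of_finrank_le hle (by omega)).ge⟩
  | d + 1, J', hle, hd => by
    by_cases hJ : J ≤ J'
    · exact ⟨0, fun _ => J.zero_mem, le_sup_of_le_right hJ⟩
    obtain ⟨x, hx, hx'⟩ := SetLike.not_le_iff_exists.mp hJ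
    have hlt : J' < Submodule.span k {x} ⊔ J' := lt_of_le_of_ne le_sup_right fun h =>
      hx' (h ▸ Submodule.mem_sup_left (Submodule.mem_span_singleton_self x))
    have := Submodule.finrank_lt_finrank_of_lt hlt
    obtain ⟨e, he, hgen⟩ := exists_generators d (Submodule.span k {x} ⊔ J')
      (sup_le ((Submodule.span_singleton_le_iff_mem _ _).mpr hx) hle) (by omega)
    refine ⟨Fin.cons x e, Fin.forall_fin_succ.mpr ⟨hx, fun i => by simpa using he i⟩, ?_⟩
    rw [Fin.range_cons, Submodule.span_insert, sup_assoc, sup_left_comm]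
    exact hgen

/-- There are at most three commutators of at most three elements. -/
theorem finrank_comm_le [FiniteDimensional k A] {d : ℕ} (hd : d ≤ 3) (e : Fin d → A) :
    finrank k (Submodule.span k {z | ∃ i j, z = e i * e j - e j * e i}) ≤ 3 := by
  have hle : Submodule.span k {z | ∃ i j, z = e i * e j - e j * e i} ≤ Submodule.span k
      (Set.range fun p : {p : Fin d × Fin d // p.1 < p.2} =>
        e p.1.1 * e p.1.2 - e p.1.2 * e p.1.1) := by
    refine Submodule.span_le.mpr ?_
    rintro _ ⟨i, j, rfl⟩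
    rcases lt_trichotomy i j with h | h | h
    · exact Submodule.subset_span ⟨⟨(i, j), h⟩, rfl⟩
    · rw [h, SetLike.mem_coe, sub_self]
      exact Submodule.zero_mem _
    · rw [SetLike.mem_coe, ← neg_mem_iff, neg_sub]
      exact Submodule.subset_span ⟨⟨(j, i), h⟩, rfl⟩
  refine (Submodule.finrank_mono hle).trans ((finrank_range_le_card _).trans ?_)
  interval_cases d <;> decide

/-- A local symmetric algebra with at most five independent trace forms has dimension at most
eleven. -/
theorem finrank_le_of_local [IsAlgClosed k] [FiniteDimensional k A] {e : A} {L J : Submodule k A}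
    (heL : e ∈ L) (hJL : J ≤ L) (hid : ∀ x ∈ L, e * x = x ∧ x * e = x) (hJJ : J * J ≤ J) {N : ℕ}
    (hN : J ^ N = ⊥) (hscal : ∀ x ∈ L, ∃ c : k, x - c • e ∈ J) (τ : Dual k A)
    (hsymm : ∀ a b, τ (a * b) = τ (b * a))
    (hnd : ∀ x ∈ L, (∀ y ∈ L, τ (x * y) = 0) → x = 0)
    (hbd : ∀ W : Submodule k A, W ≤ L → (∀ x ∈ L, ∀ y ∈ L, x * y - y * x ∈ W) →
      finrank k L ≤ finrank k W + 5) :
    finrank k L ≤ 11 := by
  set K := commSpan J with hKdef
  have hKmem : ∀ x ∈ J, ∀ y ∈ J, x * y - y * x ∈ K := fun x hx y hy =>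
    Submodule.subset_span ⟨x, hx, y, hy, rfl⟩
  have hKJ : K ≤ J ^ 2 := Submodule.span_le.mpr (by
    rintro _ ⟨x, hx, y, hy, rfl⟩
    exact Submodule.sub_mem _ (mul_mem_two hx hy) (mul_mem_two hy hx))
  have hJ2J : J ^ 2 ≤ J := (pow_two J).trans_le hJJ
  have hbound : finrank k L ≤ finrank k K + 5 := by
    refine hbd K (hKJ.trans (hJ2J.trans hJL)) fun x hx y hy => ?_
    obtain ⟨c, hc⟩ := hscal x hx
    obtain ⟨d, hd⟩ := hscal y hy
    have : x * y - y * x = (x - c • e) * (y - d • e) - (y - d • e) * (x - c • e) := by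
      simp only [sub_mul, mul_sub, smul_mul_assoc, mul_smul_comm, (hid x hx).1, (hid x hx).2,
        (hid y hy).1, (hid y hy).2, (hid e heL).1, smul_sub, smul_smul, mul_comm c d]
      abel
    rw [this]
    exact hKmem _ hc _ hd
  by_cases hK0 : K = ⊥
  · rw [hK0, finrank_bot] at hbound
    omega
  have hcomm : ¬ ∀ x ∈ J, ∀ y ∈ J, x * y = y * x := fun h => hK0 (by
    rw [eq_bot_iff]
    refine Submodule.span_le.mpr ?_
    rintro _ ⟨x, hx, y, hy, rfl⟩
    simp [h x hx y hy])
  classical
  have hex : ∃ m, J ^ (m + 1) = ⊥ := ⟨N, by rw [pow_succ, hN, Submodule.bot_mul]⟩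
  set n := Nat.find hex with hn
  have hn1 : J ^ (n + 1) = ⊥ := Nat.find_spec hex
  have hmono : ∀ {i j : ℕ}, 1 ≤ i → i ≤ j → J ^ j ≤ J ^ i := pow_le_pow_of_mul_le hJJ
  have hkill : ∀ {i j : ℕ} {x y : A}, x ∈ J ^ i → y ∈ J ^ j → n + 1 ≤ i + j → x * y = 0 := by
    intro i j x y hx hy hij
    have h := hmono (Nat.le_add_left 1 n) hij (mul_mem_pow_add hx hy)
    rw [hn1] at h
    exact (Submodule.mem_bot k).mp h
  have h2 : 2 ≤ n := by
    by_contra hlt
    exact hcomm fun x hx y hy => by
      rw [hkill (mem_pow_one hx) (mem_pow_one hy) (by omega),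
        hkill (mem_pow_one hy) (mem_pow_one hx) (by omega)]
  have hne : J ^ n ≠ ⊥ := fun h => Nat.find_min hex (show n - 1 < n by omega)
    (by rw [show n - 1 + 1 = n by omega]; exact h)
  obtain ⟨s, hs, hs0⟩ := (Submodule.ne_bot_iff _).mp hne
  have hτ0 : ∀ x ∈ J, (∀ y ∈ J, τ (x * y) = 0) → τ x = 0 → x = 0 := fun x hx hJx hx0 =>
    hnd x (hJL hx) fun y hy => by
      obtain ⟨c, hc⟩ := hscal y hy
      have h := hJx _ hc
      rwa [mul_sub, map_sub, mul_smul_comm, (hid x (hJL hx)).2, map_smul, hx0, smul_zero,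
        sub_zero] at h
  have hnJ : J ^ n ≤ J := (hmono le_rfl (by omega)).trans_eq (pow_one J)
  have hτs : ∀ x ∈ J ^ n, τ x = 0 → x = 0 := fun x hx => hτ0 x (hnJ hx) fun y hy => by
    rw [hkill hx (mem_pow_one hy) le_rfl, map_zero]
  have hts : τ s ≠ 0 := fun h => hs0 (hτs s hs h)
  have hline : J ^ n ≤ Submodule.span k {s} := fun x hx => by
    refine Submodule.mem_span_singleton.mpr ⟨τ x / τ s, (sub_eq_zero.mp ?_).symm⟩
    refine hτs _ (Submodule.sub_mem _ hx (Submodule.smul_mem _ _ hs)) ?_
    rw [map_sub, map_smul, smul_eq_mul, div_mul_cancel₀ _ hts, sub_self]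
  have hKτ : ∀ z ∈ K, τ z = 0 := fun z hz => by
    have hle : K ≤ LinearMap.ker τ := Submodule.span_le.mpr (by
      rintro _ ⟨x, -, y, -, rfl⟩
      simp [hsymm x y])
    exact hle hz
  rcases h2.eq_or_lt with h2' | h3
  · exact absurd (fun x hx y hy => sub_eq_zero.mp
      (hτs _ (h2' ▸ hKJ (hKmem x hx y hy)) (hKτ _ (hKmem x hx y hy)))) hcomm
  have hFn : finrank k (K ⊔ J ^ n : Submodule k A) = finrank k K + 1 := by
    refine le_antisymm ((Submodule.finrank_add_le_finrank_add_finrank _ _).trans
      (Nat.add_le_add_left ((Submodule.finrank_mono hline).trans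
        (finrank_span_singleton hs0).le) _)) ?_
    exact Submodule.finrank_lt_finrank_of_lt (lt_of_le_of_ne le_sup_left fun h =>
      hts (hKτ s (h ▸ Submodule.mem_sup_right hs)))
  have hLJ : finrank k L ≤ finrank k J + 1 := by
    have hle : L ≤ J ⊔ Submodule.span k {e} := fun x hx => by
      obtain ⟨c, hc⟩ := hscal x hx
      rw [← sub_add_cancel x (c • e)]
      exact Submodule.add_mem_sup hc (Submodule.smul_mem _ _ (Submodule.mem_span_singleton_self e))
    refine (Submodule.finrank_mono hle).trans ((Submodule.finrank_add_le_finrank_add_finrank _ _).trans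
      (Nat.add_le_add_left ?_ _))
    exact (finrank_span_le_card _).trans (by simp)
  by_contra hbig
  have hJbig : finrank k J + 1 ≤ finrank k K + 5 := by
    have hlt : J < L := lt_of_le_of_ne hJL fun h => hs0 (by
      have := hkill hs (mem_pow_one (show e ∈ J by rw [h]; exact heL)) le_rfl
      rwa [(hid s (hJL (hnJ hs))).2] at this)
    exact (Submodule.finrank_lt_finrank_of_lt hlt).trans_le hbound
  have hF : ∀ {i j : ℕ}, 1 ≤ i → i ≤ j →
      finrank k (K ⊔ J ^ j : Submodule k A) ≤ finrank k (K ⊔ J ^ i : Submodule k A) :=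
    fun hi hij => Submodule.finrank_mono (sup_le_sup_left (hmono hi hij) _)
  have hF2 : finrank k (K ⊔ J ^ 2 : Submodule k A) = finrank k (J ^ 2 : Submodule k A) := by
    rw [sup_eq_right.mpr hKJ]
  have hF2n := hF (i := 2) (j := n) (by omega) h2
  -- the number of generators
  obtain ⟨d, hd⟩ : ∃ d, finrank k J = finrank k (J ^ 2 : Submodule k A) + d :=
    ⟨_, (Nat.add_sub_cancel' (Submodule.finrank_mono hJ2J)).symm⟩
  have hd2 : 2 ≤ d := by
    by_contra hlt
    obtain ⟨a, ha, hgen⟩ := exists_generators 1 (J ^ 2) hJ2J (by omega)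
    rw [Set.range_unique, pow_two] at hgen
    exact hcomm (comm_of_gen hN (ha _) hgen)
  have hd3 : d ≤ 3 := by omega
  obtain ⟨a, ha, hgen⟩ := exists_generators d (J ^ 2) hJ2J hd.le
  have hn5 : 5 ≤ n := by
    by_contra hn5
    have hK3 : K ≤ Submodule.span k {z | ∃ i j, z = a i * a j - a j * a i} ⊔ J ^ 3 :=
      commSpan_le hJJ a ha hgen _ (fun i h hh => Submodule.sub_mem _
        (mul_mem_pow_add (mem_pow_one (ha i)) hh) (mul_mem_pow_add hh (mem_pow_one (ha i))))
        (hmono (by omega) (by omega))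
    have hF3 : finrank k (K ⊔ J ^ 3 : Submodule k A) ≤ 3 + finrank k (J ^ 3 : Submodule k A) :=
      (Submodule.finrank_mono (sup_le hK3 le_sup_right)).trans
        ((Submodule.finrank_add_le_finrank_add_finrank _ _).trans
          (Nat.add_le_add_right (finrank_comm_le hd3 a) _))
    have hFn3 := hF (i := 3) (j := n) (by omega) h3
    have hJ3 : finrank k (J ^ 3 : Submodule k A) ≤ 4 := by
      rcases (show n = 3 ∨ n = 4 by omega) with h | h
      · rw [← h]
        exact ((Submodule.finrank_mono hline).trans (finrank_span_singleton hs0).le).trans (by omega)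
      let Φ : (J ^ 3 : Submodule k A) →ₗ[k] (Fin d → k) :=
        LinearMap.pi fun i => (τ.comp (LinearMap.mulLeft k (a i))).comp (J ^ 3).subtype
      have hker : (LinearMap.ker Φ).map (J ^ 3).subtype ≤ Submodule.span k {s} := by
        rintro _ ⟨⟨w, hw⟩, hw0, rfl⟩
        have hw1 : ∀ i, τ (a i * w) = 0 := fun i => congrFun (LinearMap.mem_ker.mp hw0) i
        have hwJ : w ∈ J := hJ2J (hmono (by omega) (by omega) hw)
        have hzero : J ≤ LinearMap.ker (τ.comp (LinearMap.mulRight k w)) := by
          refine hgen.trans (sup_le (Submodule.span_le.mpr ?_) fun x hx => ?_)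
          · rintro _ ⟨i, rfl⟩
            exact hw1 i
          · rw [LinearMap.mem_ker, LinearMap.comp_apply, LinearMap.mulRight_apply,
              hkill hx hw (by omega), map_zero]
        refine Submodule.mem_span_singleton.mpr ⟨τ w / τ s, (sub_eq_zero.mp ?_).symm⟩
        refine hτ0 _ (Submodule.sub_mem _ hwJ (Submodule.smul_mem _ _ (hnJ hs))) (fun y hy => ?_) ?_
        · rw [sub_mul, map_sub, smul_mul_assoc, hkill hs (mem_pow_one hy) le_rfl, smul_zero,
            map_zero, sub_zero, hsymm]
          exact hzero hy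
        · simp only [Submodule.subtype_apply]
          rw [map_sub, map_smul, smul_eq_mul, div_mul_cancel₀ _ hts, sub_self]
      have h1 := (Submodule.finrank_mono hker).trans (finrank_span_singleton hs0).le
      rw [Submodule.finrank_map_subtype_eq] at h1
      have h2' := LinearMap.finrank_range_add_finrank_ker Φ
      have h4 := Submodule.finrank_le (LinearMap.range Φ)
      rw [Module.finrank_fin_fun] at h4
      omega
    omega
  have hdeep : Deep J τ n := ⟨hJJ, hn1, hsymm, ⟨s, hs, hts⟩, hn5⟩
  have hconst : ∀ {m : ℕ}, 2 ≤ m → m < n →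
      finrank k (K ⊔ J ^ m : Submodule k A) ≤ finrank k K + 1 →
      ∀ l, m ≤ l → l < n → J ^ l ≤ K ⊔ J ^ (l + 1) := fun {m} hm hmn hFm l hml hln => by
    have e1 := hF (i := m) (j := l) (by omega) hml
    have e2 := hF (i := l + 1) (j := n) (by omega) hln
    have := Submodule.eq_of_le_of_finrank_le
      (sup_le_sup_left (hmono (i := l) (j := l + 1) (by omega) (by omega)) K) (by omega)
    exact le_sup_right.trans this.ge
  rcases (show d = 3 ∨ d = 2 by omega) with rfl | rfl
  · exact three_gen_false hdeep a ha hgen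
      fun m hm hmn => hconst le_rfl (by omega) (by omega) m hm hmn
  · refine two_gen_false hdeep (a := a 0) (b := a 1) ⟨ha 0, ha 1, ?_⟩ fun hnot => ⟨?_, ?_⟩
    · refine hgen.trans (sup_le_sup_right (Submodule.span_mono ?_) _)
      rintro _ ⟨i, rfl⟩
      fin_cases i <;> simp
    · have hlt : K ⊔ J ^ 3 < K ⊔ J ^ 2 := lt_of_le_of_ne (sup_le_sup_left (hmono (by omega) (by omega)) _)
        fun h => hnot (le_sup_right.trans h.ge)
      have := Submodule.finrank_lt_finrank_of_lt hlt
      exact hconst (m := 3) (by omega) (by omega) (by omega)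
    · obtain ⟨q, hq, hq'⟩ := SetLike.not_le_iff_exists.mp hnot
      have hlt : K ⊔ J ^ 3 < K ⊔ J ^ 3 ⊔ Submodule.span k {q} := lt_of_le_of_ne le_sup_left
        fun h => hq' (h ▸ Submodule.mem_sup_right (Submodule.mem_span_singleton_self q))
      have hle : K ⊔ J ^ 3 ⊔ Submodule.span k {q} ≤ K ⊔ J ^ 2 := sup_le
        (sup_le_sup_left (hmono (by omega) (by omega)) _)
        ((Submodule.span_singleton_le_iff_mem _ _).mpr (Submodule.mem_sup_right hq))
      have := Submodule.finrank_lt_finrank_of_lt hlt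
      have e2 := hF (i := 3) (j := n) (by omega) (by omega)
      exact ⟨q, le_sup_right.trans (Submodule.eq_of_le_of_finrank_le hle (by omega)).ge⟩

end Cfsg.Agent.BlockFive
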