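import Mathlib

/-!
# Bilinear and trilinear forms in three variables without symmetric members

`Q` is a space of bilinear forms containing no non-zero symmetric form, `S` a space of trilinear
forms with slices in `Q`, and `U` stands for quadrilinear forms with slices in `S`.  These are the
duals of the first layers of a graded algebra with three generators whose quadratic layer is spanned
by commutators.

* `exists_chain_forms`: if `S` has dimension above one then `Q` contains forms `f ⊗ g` and `g ⊗ h`;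
* `main`: unless `S` contains a cyclic form, `S` or the space of the `U` is at most one-dimensional.
-/

set_option autoImplicit false
set_option linter.unusedSimpArgs false
set_option maxHeartbeats 1000000
set_option maxSynthPendingDepth 3

namespace Cfsg.Agent.BlockFive

open Module

variable {k V : Type*} [Field k] [AddCommGroup V] [Module k V] [FiniteDimensional k V]

/-- Bilinear forms. -/
abbrev Bil (k V : Type*) [Field k] [AddCommGroup V] [Module k V] := V →ₗ[k] V →ₗ[k] k

/-- Trilinear forms. -/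
abbrev Tri (k V : Type*) [Field k] [AddCommGroup V] [Module k V] := V →ₗ[k] Bil k V

/-- The elementary form `f ⊗ g`. -/
abbrev tens (f g : Dual k V) : Bil k V := LinearMap.smulRight f g

omit [FiniteDimensional k V] in
theorem tens_apply (f g : Dual k V) (x y : V) : tens f g x y = f x * g y := by simp [tens]

/-- A space of forms without a symmetric member. -/
structure Skewish (Q : Submodule k (Bil k V)) : Prop where
  dim : finrank k V = 3
  eq_zero : ∀ F ∈ Q, (∀ x y, F x y = F y x) → F = 0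

/-- Forms with slices in `Q`. -/
structure Slices (Q : Submodule k (Bil k V)) (T : Tri k V) : Prop where
  left : ∀ x, T x ∈ Q
  right : ∀ z, ∃ F ∈ Q, ∀ x y, T x y z = F x y

/-- Coordinates along a basis. -/
theorem exists_dual_basis (hV : finrank k V = 3) (f : Fin 3 → Dual k V)
    (hf : LinearIndependent k f) : ∃ e : Basis (Fin 3) k V, ∀ i j, f i (e j) = if i = j then 1 else 0 := by
  have hb : Submodule.span k (Set.range f) = ⊤ :=
    hf.span_eq_top_of_card_eq_finrank (by rw [Fintype.card_fin, Subspace.dual_finrank_eq, hV])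
  let Φ : V →ₗ[k] (Fin 3 → k) := LinearMap.pi f
  have hinj : Function.Injective Φ := by
    rw [← LinearMap.ker_eq_bot, LinearMap.ker_eq_bot']
    intro x hx
    refine (Module.forall_dual_apply_eq_zero_iff k x).mp fun φ => ?_
    have hle : Submodule.span k (Set.range f) ≤ LinearMap.ker (Dual.eval k V x) :=
      Submodule.span_le.mpr (by rintro _ ⟨i, rfl⟩; exact congrFun hx i)
    exact hle (hb ▸ Submodule.mem_top)
  let E := Φ.linearEquivOfInjective hinj (by rw [hV, Module.finrank_fin_fun])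
  refine ⟨Basis.ofEquivFun E, fun i j => ?_⟩
  have h : E (Basis.ofEquivFun E j) i = (Pi.single j (1 : k) : Fin 3 → k) i := by
    rw [Basis.coe_ofEquivFun, LinearEquiv.apply_symm_apply]
  rw [show f i (Basis.ofEquivFun E j) = E (Basis.ofEquivFun E j) i from rfl, h, Pi.single_apply]

theorem linearIndependent_three {k M : Type*} [Field k] [AddCommGroup M] [Module k M] {a b c : M}
    (h : ∀ r s t : k, r • a + s • b + t • c = 0 → r = 0 ∧ s = 0 ∧ t = 0) :
    LinearIndependent k ![a, b, c] := by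
  rw [Fintype.linearIndependent_iff]
  intro g hg i
  simp only [Fin.sum_univ_three, Matrix.cons_val_zero, Matrix.cons_val_one, Matrix.cons_val_two,
    Matrix.head_cons, Matrix.tail_cons] at hg
  obtain ⟨h0, h1, h2⟩ := h _ _ _ hg
  fin_cases i <;> assumption

omit [FiniteDimensional k V] in
theorem Skewish.ext_alt {Q : Submodule k (Bil k V)} (hQ : Skewish Q) (e : Basis (Fin 3) k V)
    {F : Bil k V} (hF : F ∈ Q) (h01 : F (e 0) (e 1) = F (e 1) (e 0))
    (h02 : F (e 0) (e 2) = F (e 2) (e 0)) (h12 : F (e 1) (e 2) = F (e 2) (e 1)) : F = 0 := by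
  refine hQ.eq_zero F hF fun x y => ?_
  have h : F = F.flip := e.ext fun i => e.ext fun j => by
    fin_cases i <;> fin_cases j <;>
      simp only [Fin.isValue, LinearMap.flip_apply, Fin.zero_eta, Fin.mk_one, Fin.reduceFinMk] <;>
      first | rfl | assumption | (symm; assumption)
  exact LinearMap.congr_fun (LinearMap.congr_fun h x) y

theorem Skewish.finrank_le {Q : Submodule k (Bil k V)} (hQ : Skewish Q) : finrank k Q ≤ 3 := by
  let e : Basis (Fin 3) k V := Module.finBasisOfFinrankEq k V hQ.dim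
  let D (i j : Fin 3) : Bil k V →ₗ[k] k :=
    (LinearMap.applyₗ (e j)).comp (LinearMap.applyₗ (e i)) -
      (LinearMap.applyₗ (e i)).comp (LinearMap.applyₗ (e j))
  let φ : Q →ₗ[k] (Fin 3 → k) := (LinearMap.pi ![D 0 1, D 0 2, D 1 2]).comp Q.subtype
  have hinj : Function.Injective φ := by
    refine (injective_iff_map_eq_zero φ).mpr fun F hF => ?_
    have h0 := congrFun hF 0
    have h1 := congrFun hF 1
    have h2 := congrFun hF 2
    simp [φ, D, sub_eq_zero] at h0 h1 h2
    exact Subtype.ext (hQ.ext_alt e F.2 h0 h1 h2)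
  simpa [Module.finrank_fin_fun] using LinearMap.finrank_le_finrank_of_injective hinj

/-- Three independent forms of `Q` span it. -/
theorem Skewish.span_three {Q : Submodule k (Bil k V)} (hQ : Skewish Q) {F₁ F₂ F₃ : Bil k V}
    (h₁ : F₁ ∈ Q) (h₂ : F₂ ∈ Q) (h₃ : F₃ ∈ Q)
    (h : ∀ r s t : k, r • F₁ + s • F₂ + t • F₃ = 0 → r = 0 ∧ s = 0 ∧ t = 0) :
    Q ≤ Submodule.span k (Set.range ![F₁, F₂, F₃]) := by
  have hind := linearIndependent_three (k := k) h
  refine (Submodule.eq_of_le_of_finrank_le (Submodule.span_le.mpr ?_) ?_).ge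
  · rintro _ ⟨i, rfl⟩
    fin_cases i <;> assumption
  · rw [finrank_span_eq_card hind, Fintype.card_fin]
    exact hQ.finrank_le

omit [FiniteDimensional k V] in
/-- The equations of a form with slices in a space spanned by three forms. -/
theorem Slices.coord {Q : Submodule k (Bil k V)} {T : Tri k V} (hT : Slices Q T)
    {F₁ F₂ F₃ : Bil k V} (hQ : Q ≤ Submodule.span k (Set.range ![F₁, F₂, F₃]))
    (e : Basis (Fin 3) k V) :
    ∃ a₁ a₂ a₃ g₁ g₂ g₃ : Fin 3 → k,
      (∀ i, T (e i) = a₁ i • F₁ + a₂ i • F₂ + a₃ i • F₃) ∧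
      (∀ x y l, T x y (e l) = g₁ l * F₁ x y + g₂ l * F₂ x y + g₃ l * F₃ x y) ∧
      ∀ i j l, a₁ i * F₁ (e j) (e l) + a₂ i * F₂ (e j) (e l) + a₃ i * F₃ (e j) (e l) =
        g₁ l * F₁ (e i) (e j) + g₂ l * F₂ (e i) (e j) + g₃ l * F₃ (e i) (e j) := by
  have hc : ∀ F ∈ Q, ∃ c : Fin 3 → k, F = c 0 • F₁ + c 1 • F₂ + c 2 • F₃ := fun F hF => by
    obtain ⟨c, hc⟩ := (Submodule.mem_span_range_iff_exists_fun k).mp (hQ hF)
    exact ⟨c, by rw [← hc, Fin.sum_univ_three]; rfl⟩
  choose a ha using fun i => hc _ (hT.left (e i))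
  choose F hFQ hF using fun l => hT.right (e l)
  choose g hg using fun l => hc _ (hFQ l)
  have hr : ∀ x y l, T x y (e l) = g l 0 * F₁ x y + g l 1 * F₂ x y + g l 2 * F₃ x y := fun x y l => by
    rw [hF, hg]
    simp
  refine ⟨fun i => a i 0, fun i => a i 1, fun i => a i 2, fun i => g i 0, fun i => g i 1,
    fun i => g i 2, ha, hr, fun i j l => ?_⟩
  have h := hr (e i) (e j) l
  rw [ha] at h
  simpa using h

omit [FiniteDimensional k V] in
theorem tri_ext (e : Basis (Fin 3) k V) {T T' : Tri k V}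
    (h : ∀ i j l, T (e i) (e j) (e l) = T' (e i) (e j) (e l)) : T = T' :=
  e.ext fun i => e.ext fun j => e.ext fun l => h i j l

/-- A form in `S` with the right slices on a line. -/
theorem chain_of_rank_one {Q : Submodule k (Bil k V)} (hQ : Skewish Q) {T₀ : Tri k V}
    (hT₀ : Slices Q T₀) (h0 : T₀ ≠ 0) {M : Bil k V} (hM : M ∈ Q) (γ : V → k)
    (hγ : ∀ x y z, T₀ x y z = γ z * M x y) :
    (∃ f g h : Dual k V, f ≠ 0 ∧ g ≠ 0 ∧ h ≠ 0 ∧ tens f g ∈ Q ∧ tens g h ∈ Q) ∨
      ∀ T, Slices Q T → ∃ r : k, T = r • T₀ := by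
  obtain ⟨x₀, y₀, z₀, hne⟩ : ∃ x y z, T₀ x y z ≠ 0 := by
    by_contra h
    push Not at h
    exact h0 (LinearMap.ext fun x => LinearMap.ext fun y => LinearMap.ext fun z => h x y z)
  rw [hγ] at hne
  let ω : Dual k V := (M x₀ y₀)⁻¹ • T₀ x₀ y₀
  have hω : ∀ x y z, T₀ x y z = ω z * M x y := fun x y z => by
    simp only [ω, LinearMap.smul_apply, smul_eq_mul, hγ, hγ x₀ y₀]
    field_simp [right_ne_zero_of_mul hne]
  have hω0 : ω ≠ 0 := fun h => by
    have := hω x₀ y₀ z₀
    rw [h, LinearMap.zero_apply, zero_mul, hγ] at this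
    exact hne this
  have hrow : ∀ x, tens (M x) ω ∈ Q := fun x => by
    convert hT₀.left x using 1
    refine LinearMap.ext fun y => LinearMap.ext fun z => ?_
    rw [tens_apply, hω, mul_comm]
  have hM0 : M ≠ 0 := fun h => right_ne_zero_of_mul hne (by simp [h])
  obtain ⟨x₁, hx₁⟩ : ∃ x, M x ≠ 0 := by
    by_contra h
    push Not at h
    exact hM0 (LinearMap.ext h)
  by_cases hline : ∀ x, ∃ c : k, M x = c • M x₁
  · left
    obtain ⟨y₁, hy₁⟩ : ∃ y, M x₁ y ≠ 0 := by
      by_contra h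
      push Not at h
      exact hx₁ (LinearMap.ext h)
    let f : Dual k V := (M x₁ y₁)⁻¹ • M.flip y₁
    have hMfg : M = tens f (M x₁) := by
      refine LinearMap.ext fun x => LinearMap.ext fun y => ?_
      obtain ⟨c, hc⟩ := hline x
      simp only [tens_apply, f, LinearMap.smul_apply, smul_eq_mul, LinearMap.flip_apply, hc]
      field_simp
    refine ⟨f, M x₁, ω, fun h => hM0 ?_, hx₁, hω0, hMfg ▸ hM, hrow x₁⟩
    rw [hMfg, h]
    ext; simp
  right
  push Not at hline
  obtain ⟨x₂, hx₂⟩ := hline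
  have hout : ∀ r s : k, r • M x₁ + s • M x₂ ≠ ω := fun r s h => by
    have hmem : tens ω ω ∈ Q := by
      have := Q.add_mem (Q.smul_mem r (hrow x₁)) (Q.smul_mem s (hrow x₂))
      convert this using 1
      ext x y
      simp [← h]
      ring
    have hz := hQ.eq_zero _ hmem fun x y => by simp only [tens_apply, mul_comm]
    obtain ⟨z, hz'⟩ : ∃ z, ω z ≠ 0 := by
      by_contra hh
      push Not at hh
      exact hω0 (LinearMap.ext hh)
    have := LinearMap.congr_fun (LinearMap.congr_fun hz z) z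
    rw [tens_apply] at this
    exact hz' (mul_self_eq_zero.mp this)
  have hind : LinearIndependent k ![ω, M x₁, M x₂] := linearIndependent_three fun r s t h => by
    obtain rfl : r = 0 := by
      by_contra hr
      refine hout (-s / r) (-t / r) ?_
      rw [← smul_right_inj hr, smul_add, smul_smul, smul_smul, mul_div_cancel₀ _ hr,
        mul_div_cancel₀ _ hr, neg_smul, neg_smul]
      linear_combination (norm := module) -h
    rw [zero_smul, zero_add] at h
    obtain rfl : t = 0 := by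
      by_contra ht
      refine hx₂ (-s / t) ?_
      rw [← smul_right_inj ht, smul_smul, mul_div_cancel₀ _ ht, neg_smul]
      linear_combination (norm := module) h
    rw [zero_smul, add_zero] at h
    exact ⟨rfl, (smul_eq_zero.mp h).resolve_right hx₁, rfl⟩
  obtain ⟨e, he⟩ := exists_dual_basis hQ.dim _ hind
  have w0 : ω (e 0) = 1 := by simpa using he 0 0
  have w1 : ω (e 1) = 0 := by simpa using he 0 1
  have w2 : ω (e 2) = 0 := by simpa using he 0 2
  have g10 : M x₁ (e 0) = 0 := by simpa using he 1 0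
  have g11 : M x₁ (e 1) = 1 := by simpa using he 1 1
  have g12 : M x₁ (e 2) = 0 := by simpa using he 1 2
  have g20 : M x₂ (e 0) = 0 := by simpa using he 2 0
  have g21 : M x₂ (e 1) = 0 := by simpa using he 2 1
  have g22 : M x₂ (e 2) = 1 := by simpa using he 2 2
  -- the rows of `M` avoid the first coordinate
  have hcol : ∀ x, M x (e 0) = 0 := by
    intro x
    by_contra hx
    have hmem : tens ω ω ∈ Q := by
      have := Q.smul_mem (M x (e 0))⁻¹ (Submodule.sub_mem Q (Submodule.sub_mem Q (hrow x)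
        (Q.smul_mem (M x (e 1)) (hrow x₁))) (Q.smul_mem (M x (e 2)) (hrow x₂)) :
          tens (M x) ω - M x (e 1) • tens (M x₁) ω - M x (e 2) • tens (M x₂) ω ∈ Q)
      convert this using 1
      refine e.ext fun i => e.ext fun j => ?_
      fin_cases i <;> simp [w0, w1, w2, g10, g11, g12, g20, g21, g22, hx]
    have hz := hQ.eq_zero _ hmem fun x y => by simp only [tens_apply, mul_comm]
    have := LinearMap.congr_fun (LinearMap.congr_fun hz (e 0)) (e 0)
    rw [tens_apply, w0, LinearMap.zero_apply, LinearMap.zero_apply, one_mul] at this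
    exact one_ne_zero this
  have m12 : M (e 1) (e 2) ≠ M (e 2) (e 1) := by
    intro h
    have hF := hQ.ext_alt e (Q.add_mem (Q.add_mem hM (Q.smul_mem (M (e 0) (e 1)) (hrow x₁)))
      (Q.smul_mem (M (e 0) (e 2)) (hrow x₂)))
      (by simp [w0, w1, g10, g11, g20, g21, hcol])
      (by simp [w0, w2, g10, g12, g20, g22, hcol])
      (by simp [w1, w2, h])
    have e1 := LinearMap.congr_fun (LinearMap.congr_fun hF (e 0)) (e 1)
    have e2 := LinearMap.congr_fun (LinearMap.congr_fun hF (e 0)) (e 2)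
    simp [w1, w2] at e1 e2
    refine hM0 (e.ext fun i => e.ext fun j => ?_)
    have f1 := LinearMap.congr_fun (LinearMap.congr_fun hF (e i)) (e j)
    simpa [e1, e2] using f1
  have hspan := hQ.span_three (hrow x₁) (hrow x₂) hM fun r s t h => by
    have h10 := LinearMap.congr_fun (LinearMap.congr_fun h (e 1)) (e 0)
    have h20 := LinearMap.congr_fun (LinearMap.congr_fun h (e 2)) (e 0)
    have h12 := LinearMap.congr_fun (LinearMap.congr_fun h (e 1)) (e 2)
    have h21 := LinearMap.congr_fun (LinearMap.congr_fun h (e 2)) (e 1)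
    simp [w0, w1, w2, g10, g11, g12, g20, g21, g22, hcol] at h10 h20 h12 h21
    subst h10 h20
    refine ⟨rfl, rfl, ?_⟩
    by_contra ht
    simp [ht] at h12 h21
    exact m12 (h12.trans h21.symm)
  intro T hT
  obtain ⟨a₁, a₂, a₃, u₁, u₂, u₃, hl, hr, hE⟩ := hT.coord hspan e
  simp only [tens_apply] at hE
  -- the values
  obtain ⟨b₁₁, hb₁₁⟩ : ∃ b, M (e 1) (e 1) = b := ⟨_, rfl⟩
  obtain ⟨b₁₂, hb₁₂⟩ : ∃ b, M (e 1) (e 2) = b := ⟨_, rfl⟩
  obtain ⟨b₂₁, hb₂₁⟩ : ∃ b, M (e 2) (e 1) = b := ⟨_, rfl⟩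
  obtain ⟨b₂₂, hb₂₂⟩ : ∃ b, M (e 2) (e 2) = b := ⟨_, rfl⟩
  rw [hb₁₂, hb₂₁] at m12
  have hu : a₃ 1 = 0 ∧ a₃ 2 = 0 ∧ u₃ 1 = 0 ∧ u₃ 2 = 0 := by
    have q111 := hE 1 1 1
    have q112 := hE 1 1 2
    have q121 := hE 1 2 1
    have q122 := hE 1 2 2
    have q211 := hE 2 1 1
    have q212 := hE 2 1 2
    have q221 := hE 2 2 1
    have q222 := hE 2 2 2
    simp [w0, w1, w2, g10, g11, g12, g20, g21, g22, hb₁₁, hb₁₂, hb₂₁, hb₂₂]
      at q111 q112 q121 q122 q211 q212 q221 q222
    grind
  obtain ⟨hu1, hu2, hv1, hv2⟩ := hu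
  have ha30 : a₃ 0 = 0 := by
    by_contra h
    have q12 := hE 0 1 2
    have q21 := hE 0 2 1
    simp [w0, w1, w2, g10, g11, g12, g20, g21, g22, hb₁₂, hb₂₁, hv1, hv2] at q12 q21
    grind
  have hzero : ∀ l, u₁ l = 0 ∧ u₂ l = 0 := by
    intro l
    have q1 := hE 1 0 l
    have q2 := hE 2 0 l
    simp [w0, w1, w2, g10, g11, g12, g20, g21, g22, hu1, hu2, hcol] at q1 q2
    exact ⟨q1.symm, q2.symm⟩
  refine ⟨u₃ 0, tri_ext e fun i j l => ?_⟩
  rw [hr, LinearMap.smul_apply, LinearMap.smul_apply, LinearMap.smul_apply, smul_eq_mul, hω]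
  fin_cases l
  · simp [(hzero 0).1, (hzero 0).2, w0]
  · simp [(hzero 1).1, (hzero 1).2, w1, hv1]
  · simp [(hzero 2).1, (hzero 2).2, w2, hv2]

omit [FiniteDimensional k V] in
theorem Slices.combo {Q : Submodule k (Bil k V)} {T T' : Tri k V} (hT : Slices Q T)
    (hT' : Slices Q T') (r s : k) : Slices Q (r • T + s • T') := by
  refine ⟨fun x => ?_, fun z => ?_⟩
  · exact Q.add_mem (Q.smul_mem r (hT.left x)) (Q.smul_mem s (hT'.left x))
  · obtain ⟨F, hF, h⟩ := hT.right z
    obtain ⟨F', hF', h'⟩ := hT'.right z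
    exact ⟨r • F + s • F', Q.add_mem (Q.smul_mem r hF) (Q.smul_mem s hF'),
      fun x y => by simp [h, h']⟩

/-- `Q` contains forms `f ⊗ g` and `g ⊗ h`. -/
def HasChain (Q : Submodule k (Bil k V)) : Prop :=
  ∃ f g h : Dual k V, f ≠ 0 ∧ g ≠ 0 ∧ h ≠ 0 ∧ tens f g ∈ Q ∧ tens g h ∈ Q

/-- Two independent trilinear forms, one of which has the right slices on a line. -/
theorem hasChain_of_line {Q : Submodule k (Bil k V)} (hQ : Skewish Q) {T T' T₀ : Tri k V}
    (hT : Slices Q T) (hT' : Slices Q T') (hind : LinearIndependent k ![T, T'])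
    (hT₀ : Slices Q T₀) (h0 : T₀ ≠ 0) {M : Bil k V} (hM : M ∈ Q) (γ : V → k)
    (hγ : ∀ x y z, T₀ x y z = γ z * M x y) : HasChain Q := by
  refine (chain_of_rank_one hQ hT₀ h0 hM γ hγ).resolve_right fun h => ?_
  obtain ⟨r, hr⟩ := h T hT
  obtain ⟨s, hs⟩ := h T' hT'
  rw [LinearIndependent.pair_iff] at hind
  have := (hind s (-r) (by rw [hr, hs, smul_smul, smul_smul, ← add_smul]; ring_nf; simp)).2
  have hr0 : r = 0 := neg_eq_zero.mp this
  exact one_ne_zero (hind 1 0 (by rw [hr, hr0]; simp)).1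

omit [FiniteDimensional k V] in
/-- The normal position at a left zero. -/
theorem chain_normal {Q : Submodule k (Bil k V)} (e : Basis (Fin 3) k V)
    {T : Tri k V} (hT : Slices Q T) {C B R : Bil k V} (hB : B ∈ Q) (hR : R ∈ Q)
    (hC0 : ∀ j, C (e 0) (e j) = 0) (hC1 : C (e 1) (e 0) = 1)
    (hB0 : ∀ j, B (e 0) (e j) = 0) (hBc : ∀ i, B (e i) (e 0) = 0)
    (hR00 : R (e 0) (e 0) = 0) (hR01 : R (e 0) (e 1) = 0) (hR02 : R (e 0) (e 2) ≠ 0)
    (hR10 : R (e 1) (e 0) = 0) (hR20 : R (e 2) (e 0) = 0) (hC2 : C (e 2) (e 0) = 0)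
    (hspan : Q ≤ Submodule.span k (Set.range ![C, B, R])) (hB12 : B (e 1) (e 2) ≠ B (e 2) (e 1))
    (hnorm : T (e 1) (e 0) (e 2) = 0) :
    (∃ γ : V → k, ∀ x y z, T x y z = γ z * B x y) ∨ HasChain Q := by
  obtain ⟨a₁, a₂, a₃, g₁, g₂, g₃, hl, hr, hE⟩ := hT.coord hspan e
  have ha31 : a₃ 1 = 0 := by
    rw [hl] at hnorm
    simpa [hC0, hB0, hR02] using hnorm
  have ha30 : a₃ 0 = 0 := by
    have h := hE 0 0 2
    simpa [hC0, hB0, hR00, hR02] using h
  have hg1 : ∀ l, g₁ l = 0 := fun l => by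
    have h := hE 1 0 l
    simp [hC0, hC1, hB0, hBc, hR10, ha31] at h
    exact h.symm
  have hg30 : g₃ 0 = 0 := by
    have h := hE 0 2 0
    simp [hC0, hC2, hB0, hBc, hR20, ha30] at h
    exact h.resolve_right hR02
  have ha10 : a₁ 0 = 0 := by
    have h := hE 0 1 0
    simpa [hC0, hC1, hB0, hBc, hR10, hR01, ha30] using h
  by_cases ha20 : a₂ 0 = 0
  · left
    have hg3 : ∀ l, g₃ l = 0 := fun l => by
      have h := hE 0 2 l
      simp [hC0, hB0, ha10, ha20, ha30] at h
      exact h.resolve_right hR02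
    have hcoord : ∀ l x y, T x y (e l) = g₂ l * B x y := fun l x y => by
      rw [hr, hg1, hg3]; ring
    refine ⟨fun z => ∑ l, e.repr z l * g₂ l, fun x y z => ?_⟩
    conv_lhs => rw [← e.sum_repr z]
    rw [map_sum, Finset.sum_mul]
    exact Finset.sum_congr rfl fun l _ => by rw [map_smul, hcoord, smul_eq_mul, mul_assoc]
  right
  have hB1 : ∀ l, B (e 1) (e l) = 0 := fun l => by
    have h := hE 0 1 l
    simp [hC0, hB0, hR01, ha10, ha30] at h
    exact h.resolve_left ha20
  have hB21 : B (e 2) (e 1) ≠ 0 := fun h => hB12 (by rw [h, hB1])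
  have hg31 : g₃ 1 ≠ 0 := fun h0 => by
    have h := hE 0 2 1
    simp [hC0, hB0, ha10, ha30, h0, ha20, hB21] at h
  have ha11 : a₁ 1 = 0 := by
    have h := hE 1 1 0
    simpa [hC1, hBc, hR10, hg1, hg30, hB1, ha31] using h
  have hR11 : R (e 1) (e 1) = 0 := by
    have h := hE 1 1 1
    simpa [hg1, hB1, ha11, ha31, hg31] using h
  set R' := R - (R (e 2) (e 1) / B (e 2) (e 1)) • B with hR'def
  have hR' : R' ∈ Q := Q.sub_mem hR (Q.smul_mem _ hB)
  have hRe : R' (e 2) (e 1) = 0 := by simp [hR'def, hB21]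
  have hR'c : ∀ i, R' (e i) (e 0) = 0 := fun i => by
    fin_cases i <;> simp [hR'def, hBc, hR00, hR10, hR20]
  have hR'1 : ∀ i, R' (e i) (e 1) = 0 := fun i => by
    fin_cases i
    · simp [hR'def, hB0, hR01]
    · simp [hR'def, hB1, hR11]
    · exact hRe
  refine ⟨R'.flip (e 2), e.coord 2, B (e 2), ?_, ?_, ?_, ?_, ?_⟩
  · intro h
    have := LinearMap.congr_fun h (e 0)
    simp [hR'def, hB0] at this
    exact hR02 this
  · intro h
    have := LinearMap.congr_fun h (e 2)
    simp at this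
  · exact fun h => hB21 (LinearMap.congr_fun h (e 1))
  · convert hR' using 1
    refine e.ext fun i => e.ext fun j => ?_
    rw [tens_apply]
    fin_cases j <;> simp [hR'c, hR'1]
  · convert hB using 1
    refine e.ext fun i => e.ext fun j => ?_
    rw [tens_apply]
    fin_cases i <;> simp [hB0, hB1]

omit [FiniteDimensional k V] in
theorem exists_basis_at_zero (hV : finrank k V = 3) [FiniteDimensional k V] {x : V} (hx : x ≠ 0)
    {u : Dual k V} (hu : u ≠ 0) (hux : u x = 0) :
    ∃ e : Basis (Fin 3) k V, e 0 = x ∧ u (e 1) = 1 ∧ u (e 2) = 0 := by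
  obtain ⟨y, hy⟩ : ∃ y, u y ≠ 0 := by
    by_contra h
    push Not at h
    exact hu (LinearMap.ext h)
  obtain ⟨z, hz, hzx⟩ : ∃ z, u z = 0 ∧ z ∉ Submodule.span k {x} := by
    by_contra h
    push Not at h
    have hle : LinearMap.ker u ≤ Submodule.span k {x} := fun z hz => h z hz
    have h1 := Submodule.finrank_mono hle
    have h2 := LinearMap.finrank_range_add_finrank_ker u
    have h3 := Submodule.finrank_le (LinearMap.range u)
    rw [Module.finrank_self] at h3
    rw [finrank_span_singleton hx] at h1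
    omega
  have hli : LinearIndependent k ![x, (u y)⁻¹ • y, z] := linearIndependent_three fun r s t h => by
    have h' := congrArg u h
    simp [hux, hz, hy] at h'
    subst h'
    rw [zero_smul, add_zero] at h
    obtain rfl : t = 0 := by
      by_contra ht
      refine hzx (Submodule.mem_span_singleton.mpr ⟨-r / t, ?_⟩)
      rw [← smul_right_inj ht, smul_smul, mul_div_cancel₀ _ ht, neg_smul]
      exact neg_eq_of_add_eq_zero_right h
    rw [zero_smul, add_zero] at h
    exact ⟨(smul_eq_zero.mp h).resolve_right hx, rfl, rfl⟩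
  refine ⟨basisOfLinearIndependentOfCardEqFinrank hli (by rw [Fintype.card_fin, hV]), ?_, ?_, ?_⟩
  all_goals simp [hy, hz]

/-- Two independent forms in `S` give `f ⊗ g`, `g ⊗ h` in `Q`. -/
theorem hasChain_of_two [IsAlgClosed k] {Q : Submodule k (Bil k V)} (hQ : Skewish Q)
    {T T' : Tri k V} (hT : Slices Q T) (hT' : Slices Q T')
    (hind : LinearIndependent k ![T, T']) : HasChain Q := by
  have hV := hQ.dim
  haveI : Nontrivial V := Module.nontrivial_of_finrank_pos (R := k) (by omega)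
  have hne := (LinearIndependent.pair_iff.mp hind)
  -- a member with a zero on the left
  obtain ⟨T₀, hT₀, h0, x, hx, hTx⟩ : ∃ T₀ : Tri k V, Slices Q T₀ ∧ T₀ ≠ 0 ∧ ∃ x, x ≠ 0 ∧ T₀ x = 0 := by
    by_cases hker : ∃ x, x ≠ 0 ∧ T x = 0
    · exact ⟨T, hT, fun h => one_ne_zero (hne 1 0 (by simp [h])).1, hker⟩
    let L : V →ₗ[k] Q := T.codRestrict Q hT.left
    let L' : V →ₗ[k] Q := T'.codRestrict Q hT'.left
    have hinj : Function.Injective L := (injective_iff_map_eq_zero L).mpr fun x hx => by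
      by_contra h
      exact hker ⟨x, h, congrArg Subtype.val hx⟩
    have hdim : finrank k V = finrank k Q := by
      have := LinearMap.finrank_le_finrank_of_injective hinj
      have := hQ.finrank_le
      omega
    let E := L.linearEquivOfInjective hinj hdim
    obtain ⟨μ, hμ⟩ := Module.End.exists_eigenvalue (E.symm.toLinearMap.comp L' : Module.End k V)
    obtain ⟨x, hx⟩ := hμ.exists_hasEigenvector
    have h1 : E.symm (L' x) = μ • x := hx.apply_eq_smul
    have h2 : L' x = μ • L x := by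
      rw [← E.apply_symm_apply (L' x), h1, map_smul]; rfl
    refine ⟨(-μ) • T + (1 : k) • T', hT.combo hT' _ _, fun h => one_ne_zero (hne _ _ h).2, x, hx.2, ?_⟩
    have h3 : T' x = μ • T x := congrArg Subtype.val h2
    simp [h3]
  -- the right slices
  let sl : V → Bil k V := fun z => T₀.compr₂ (LinearMap.applyₗ z)
  have hsl : ∀ z a b, sl z a b = T₀ a b z := fun z a b => rfl
  have hslQ : ∀ z, sl z ∈ Q := fun z => by
    obtain ⟨F, hF, h⟩ := hT₀.right z
    convert hF using 1
    exact LinearMap.ext fun a => LinearMap.ext fun b => (hsl z a b).trans (h a b)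
  have hrow : ∀ z b, sl z x b = 0 := fun z b => by rw [hsl, hTx]; rfl
  have hblock : ∀ {F : Bil k V}, F ∈ Q → (∀ b, F x b = 0) → (∀ a, F a x = 0) → ∀ {B : Bil k V},
      B ∈ Q → B ≠ 0 → (∀ b, B x b = 0) → (∀ a, B a x = 0) → ∃ c : k, F = c • B := by
    intro F hF hF1 hF2 B hB hB0 hB1 hB2
    obtain ⟨u, hu⟩ : ∃ u : Dual k V, u ≠ 0 ∧ u x = 0 := by
      by_contra h
      push Not at h
      refine hB0 (LinearMap.ext fun a => ?_)
      by_contra ha
      exact h (B a) ha (hB2 a)
    obtain ⟨e, he0, -, -⟩ := exists_basis_at_zero hV hx hu.1 hu.2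
    refine ⟨(F (e 1) (e 2) - F (e 2) (e 1)) / (B (e 1) (e 2) - B (e 2) (e 1)), ?_⟩
    have hd : B (e 1) (e 2) - B (e 2) (e 1) ≠ 0 := fun h =>
      hB0 (hQ.ext_alt e hB (by rw [he0, hB1, hB2]) (by rw [he0, hB1, hB2]) (sub_eq_zero.mp h))
    refine sub_eq_zero.mp (hQ.ext_alt e (Q.sub_mem hF (Q.smul_mem _ hB)) ?_ ?_ ?_)
    · simp [he0, hF1, hF2, hB1, hB2]
    · simp [he0, hF1, hF2, hB1, hB2]
    · simp only [LinearMap.sub_apply, LinearMap.smul_apply, smul_eq_mul]
      field_simp
      ring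
  by_cases hcol : ∀ z a, sl z a x = 0
  · obtain ⟨z₀, hz₀⟩ : ∃ z, sl z ≠ 0 := by
      by_contra h
      push Not at h
      exact h0 (LinearMap.ext fun a => LinearMap.ext fun b => LinearMap.ext fun z => by
        rw [← hsl, h]; rfl)
    choose c hc using fun z => hblock (hslQ z) (hrow z) (hcol z) (hslQ z₀) hz₀ (hrow z₀) (hcol z₀)
    exact hasChain_of_line hQ hT hT' hind hT₀ h0 (hslQ z₀) c fun a b z => by
      rw [← hsl, hc]; simp
  push Not at hcol
  obtain ⟨z₀, a₀, hza⟩ := hcol
  let u : Dual k V := (sl z₀).flip x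
  have hu : u ≠ 0 := fun h => hza (LinearMap.congr_fun h a₀)
  obtain ⟨e, he0, hu1, hu2⟩ := exists_basis_at_zero hV hx hu (hrow z₀ x)
  set C := sl z₀ with hCdef
  have hC0 : ∀ b, C (e 0) b = 0 := fun b => by rw [he0]; exact hrow z₀ b
  have hC1 : C (e 1) (e 0) = 1 := by rw [he0]; exact hu1
  have hC2 : C (e 2) (e 0) = 0 := by rw [he0]; exact hu2
  have hCQ : C ∈ Q := hslQ z₀
  set D := T₀ (e 1) with hDdef
  have hD : D ∈ Q := hT₀.left _
  have hDz : ∀ z, D (e 0) z = sl z (e 1) (e 0) := fun z => rfl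
  -- the first columns of the right slices lie on a line
  have hline : ∀ z, sl z (e 2) (e 0) = 0 := by
    intro z
    by_contra hz
    have hli : LinearIndependent k ![C, sl z, D, T₀ (e 2)] := by
      rw [Fintype.linearIndependent_iff]
      intro g hg
      simp only [Fin.sum_univ_four, Matrix.cons_val_zero, Matrix.cons_val_one, Matrix.cons_val_two,
        Matrix.cons_val_three, Matrix.head_cons, Matrix.tail_cons] at hg
      have hrow0 : ∀ w b, sl w (e 0) b = 0 := fun w b => by rw [he0]; exact hrow w b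
      have d0 : D (e 0) z₀ = 1 := hC1
      have d1 : T₀ (e 2) (e 0) z₀ = 0 := hC2
      have h0' := LinearMap.congr_fun (LinearMap.congr_fun hg (e 0)) z₀
      have h1' := LinearMap.congr_fun (LinearMap.congr_fun hg (e 0)) z
      simp [hC0, hrow0, d0, d1] at h0'
      simp [hC0, hrow0, h0'] at h1'
      have h3 : g 3 = 0 := h1'.resolve_right hz
      have h2' := LinearMap.congr_fun (LinearMap.congr_fun hg (e 2)) (e 0)
      simp [h0', h3, hC2] at h2'
      have h1 : g 1 = 0 := h2'.resolve_right hz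
      have h4 := LinearMap.congr_fun (LinearMap.congr_fun hg (e 1)) (e 0)
      simp [h0', h3, h1, hC1] at h4
      intro i
      fin_cases i <;> assumption
    have hle : Submodule.span k (Set.range ![C, sl z, D, T₀ (e 2)]) ≤ Q := Submodule.span_le.mpr (by
      rintro _ ⟨i, rfl⟩
      fin_cases i
      exacts [hslQ z₀, hslQ z, hD, hT₀.left _])
    have := Submodule.finrank_mono hle
    rw [finrank_span_eq_card hli, Fintype.card_fin] at this
    have := hQ.finrank_le
    omega
  let a : V → k := fun z => sl z (e 1) (e 0)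
  have hBz : ∀ z, (∀ b, (sl z - a z • C) x b = 0) ∧ ∀ c, (sl z - a z • C) c x = 0 := by
    intro z
    have hr0 : ∀ b, sl z (e 0) b = 0 := fun b => by rw [he0]; exact hrow z b
    refine ⟨fun b => by rw [← he0]; simp [hr0, hC0], fun c => ?_⟩
    have h : (sl z - a z • C).flip (e 0) = 0 := e.ext fun i => by
      fin_cases i
      · simp [hC0, hr0]
      · simp [a, hC1]
      · simp [hline, hC2]
    rw [← he0]
    exact LinearMap.congr_fun h c
  have hBQ : ∀ z, sl z - a z • C ∈ Q := fun z => Q.sub_mem (hslQ z) (Q.smul_mem _ (hslQ z₀))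
  by_cases hz1 : ∀ z, sl z = a z • C
  · exact hasChain_of_line hQ hT hT' hind hT₀ h0 (hslQ z₀) a fun p q z => by
      rw [← hsl, hz1]; simp [hCdef]
  push Not at hz1
  obtain ⟨z₁, hz₁⟩ := hz1
  set B := sl z₁ - a z₁ • C with hBdef
  have hB : B ∈ Q := hBQ z₁
  have hB0 : B ≠ 0 := sub_ne_zero.mpr hz₁
  have hBr : ∀ j, B (e 0) (e j) = 0 := fun j => by rw [he0]; exact (hBz z₁).1 _
  have hBc : ∀ i, B (e i) (e 0) = 0 := fun i => by rw [he0]; exact (hBz z₁).2 _
  have hB12 : B (e 1) (e 2) ≠ B (e 2) (e 1) := fun h =>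
    hB0 (hQ.ext_alt e hB (by rw [hBr, hBc]) (by rw [hBr, hBc]) h)
  have hB0' : ∀ v, B (e 0) v = 0 := fun v => by rw [he0]; exact (hBz z₁).1 v
  have hBc' : ∀ v, B v (e 0) = 0 := fun v => by rw [he0]; exact (hBz z₁).2 v
  set R := D - D (e 1) (e 0) • C with hRdef
  have hR : R ∈ Q := Q.sub_mem hD (Q.smul_mem _ (hslQ z₀))
  have hRrow : ∀ z, R (e 0) z = D (e 0) z := fun z => by simp [hRdef, hC0]
  have hρ : D (e 0) z₀ = 1 := by rw [hDz, ← hCdef, hC1]
  have hR10 : R (e 1) (e 0) = 0 := by simp [hRdef, hC1]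
  have hspan : Q ≤ Submodule.span k (Set.range ![C, B, R]) := hQ.span_three (hslQ z₀) hB hR
    fun r s t h => by
      have ht : t = 0 := by
        have h1 := LinearMap.congr_fun (LinearMap.congr_fun h (e 0)) z₀
        simpa [hC0, hRrow, hρ, hB0'] using h1
      subst ht
      have hr : r = 0 := by
        have h1 := LinearMap.congr_fun (LinearMap.congr_fun h (e 1)) (e 0)
        simpa [hC1, hBc] using h1
      subst hr
      exact ⟨rfl, by simpa [hB0] using h, rfl⟩
  have hρ2 : R (e 0) (e 2) ≠ R (e 2) (e 0) := by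
    intro h
    set t := R (e 0) (e 1)
    set w := ((R + t • C) (e 1) (e 2) - (R + t • C) (e 2) (e 1)) / (B (e 1) (e 2) - B (e 2) (e 1))
    have hz := hQ.ext_alt e (Q.sub_mem (Q.add_mem hR (Q.smul_mem t hCQ)) (Q.smul_mem w hB))
      (by simp [hC0, hC1, hR10, hBr, hBc, t])
      (by simp [hC0, hC2, hBr, hBc, h])
      (by
        have hd := sub_ne_zero.mpr hB12
        simp only [w, LinearMap.sub_apply, LinearMap.smul_apply, smul_eq_mul]
        field_simp
        ring)
    have h1 := LinearMap.congr_fun (LinearMap.congr_fun hz (e 0)) z₀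
    simp [hC0, hRrow, hρ, hB0'] at h1
  -- a second member with `T (e 1) (e 0) = 0`
  obtain ⟨T₁, hT₁, h10, hnorm⟩ : ∃ T₁, Slices Q T₁ ∧ T₁ ≠ 0 ∧ T₁ (e 1) (e 0) z₀ = 0 := by
    have hz : ∀ U : Tri k V, Slices Q U →
        ((1 : k) • U + (-U (e 1) (e 0) z₀) • T₀) (e 1) (e 0) z₀ = 0 := fun U _ => by
      simp [← hDdef, hρ]
    by_cases hTz : (1 : k) • T + (-T (e 1) (e 0) z₀) • T₀ = 0
    · refine ⟨_, hT'.combo hT₀ _ _, fun h => ?_, hz T' hT'⟩
      set r := T (e 1) (e 0) z₀
      set s := T' (e 1) (e 0) z₀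
      have e1 : T = r • T₀ := by linear_combination (norm := module) hTz
      have e2 : T' = s • T₀ := by linear_combination (norm := module) h
      have hrs := hne s (-r) (by rw [e1, e2]; module)
      exact one_ne_zero (hne 1 0 (by rw [e1, neg_eq_zero.mp hrs.2]; simp)).1
    · exact ⟨_, hT.combo hT₀ _ _, hTz, hz T hT⟩
  obtain ⟨a₁, a₂, a₃, g₁, g₂, g₃, hl, hr, hE⟩ := hT₁.coord hspan e
  have ha31 : a₃ 1 = 0 := by
    rw [hl] at hnorm
    simpa [hC0, hRrow, hρ, hB0'] using hnorm
  have hg1 : ∀ l, g₁ l = 0 := fun l => by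
    have h := hE 1 0 l
    simp [hC0, hC1, hBr, hBc, hR10, ha31] at h
    exact h.symm
  by_cases hg3 : ∀ l, g₃ l = 0
  · refine hasChain_of_line hQ hT hT' hind hT₁ h10 hB (fun z => ∑ l, e.repr z l * g₂ l)
      fun p q z => ?_
    conv_lhs => rw [← e.sum_repr z]
    rw [map_sum, Finset.sum_mul]
    exact Finset.sum_congr rfl fun l _ => by
      rw [map_smul, hr, hg1, hg3, smul_eq_mul]; ring
  push Not at hg3
  obtain ⟨l₀, hl₀⟩ := hg3
  obtain ⟨j₀, hj₀⟩ : ∃ j, R (e 0) (e j) ≠ 0 := by
    by_contra h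
    push Not at h
    have : R (e 0) = 0 := e.ext fun j => h j
    rw [← hRrow, this] at hρ
    exact zero_ne_one hρ
  have hR00 : R (e 0) (e 0) = 0 := by
    by_contra h00
    have q000 := hE 0 0 0
    have q020 := hE 0 2 0
    have qj := hE 0 0 l₀
    simp [hC0, hC2, hBr, hBc] at q000 q020 qj
    grind
  have ha30 : a₃ 0 = 0 := by
    have h := hE 0 0 j₀
    simp [hC0, hBr, hBc, hR00, hj₀] at h
    exact h
  have hR20 : R (e 2) (e 0) = 0 := by
    by_contra hr20
    have hprop : ∀ l, g₃ l = a₃ 2 / R (e 2) (e 0) * R (e 0) (e l) := fun l => by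
      have h := hE 2 0 l
      simp [hC0, hC2, hBr, hBc] at h
      field_simp
      linear_combination -h
    have h10' : a₁ 0 = 0 := by
      have h := hE 0 1 0
      simp [hC0, hC1, hBr, hBc, hR10, hprop 0, hR00] at h
      exact h
    have q11 := hE 0 1 1
    have q12 := hE 0 1 2
    have q21 := hE 0 2 1
    have q22 := hE 0 2 2
    simp [hC0, hBr, ha30, h10', hprop] at q11 q12 q21 q22
    have hθ : a₃ 2 / R (e 2) (e 0) ≠ 0 := fun h => hl₀ (by rw [hprop, h, zero_mul])
    have ha20 : a₂ 0 = 0 := by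
      have hd := sub_ne_zero.mpr hB12
      refine (mul_eq_zero.mp ?_).resolve_right hd
      linear_combination q12 - q21
    simp [ha20, hθ] at q11 q22
    fin_cases j₀
    · exact hj₀ hR00
    · exact hj₀ q11
    · exact hj₀ q22
  -- move the second vector into the kernel of the row
  rw [hR20] at hρ2
  set lam := R (e 0) (e 1) / R (e 0) (e 2)
  have hli : LinearIndependent k ![e 0, e 1 - lam • e 2, e 2] := linearIndependent_three fun r s t h => by
    have h0 := congrArg (fun v => e.repr v 0) h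
    have h1 := congrArg (fun v => e.repr v 1) h
    have h2 := congrArg (fun v => e.repr v 2) h
    simp at h0 h1 h2
    subst h0 h1
    simp at h2
    exact ⟨rfl, rfl, h2⟩
  let e' := basisOfLinearIndependentOfCardEqFinrank hli (by rw [Fintype.card_fin, hV])
  have he' : e' 0 = e 0 ∧ e' 1 = e 1 - lam • e 2 ∧ e' 2 = e 2 := by simp [e']
  obtain ⟨f0, f1, f2⟩ := he'
  rcases chain_normal e' hT₁ hB hR (C := C)
    (fun j => by rw [f0, hC0]) (by simp [f0, f1, hC1, hC2])
    (fun j => by rw [f0, hB0']) (fun i => by rw [f0, hBc'])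
    (by rw [f0, hR00]) (by simp [f0, f1, lam, hρ2])
    (by rw [f0, f2]; exact hρ2) (by simp [f0, f1, hR10, hR20]) (by rw [f0, f2, hR20])
    (by rw [f0, f2, hC2]) hspan
    (fun h => hB12 (by
      have := hQ.ext_alt e' hB (by simp [f0, hB0', hBc']) (by simp [f0, hB0', hBc']) h
      rw [this]; rfl))
    (by
      rw [f0, f1, f2, map_sub, map_smul, hl, hl]
      have h2 : a₃ 2 = 0 := by
        have h := hE 2 0 2
        simp [hC0, hC2, hBr, hBc, hR20, hρ2] at h
        exact h
      simp [hC0, hBr, ha31, h2]) with ⟨γ, hγ⟩ | h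
  · exact hasChain_of_line hQ hT hT' hind hT₁ h10 hB γ hγ
  · exact h

/-- Forms with slices in `S`. -/
structure SlicesFour (S : Submodule k (Tri k V)) (U : V →ₗ[k] Tri k V) : Prop where
  left : ∀ x, U x ∈ S
  right : ∀ w, ∃ T ∈ S, ∀ x y z, U x y z w = T x y z

/-- A trilinear form from a functional and a bilinear form. -/
abbrev tens₃ (f : Dual k V) (F : Bil k V) : Tri k V := LinearMap.smulRight f F

omit [FiniteDimensional k V] in
theorem tens₃_apply (f : Dual k V) (F : Bil k V) (x : V) : tens₃ f F x = f x • F := by simp [tens₃]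

omit [FiniteDimensional k V] in
/-- The quadrilinear forms over an open chain are multiples of one. -/
theorem chain_end {Q : Submodule k (Bil k V)} (e : Basis (Fin 3) k V) {κ : Dual k V}
    (hspan : Q ≤ Submodule.span k
      (Set.range ![tens (e.coord 0) (e.coord 1), tens (e.coord 1) (e.coord 2), tens (e.coord 2) κ]))
    (h0 : κ (e 0) ≠ 0) (hne : κ (e 1) ≠ 0 ∨ κ (e 2) ≠ 0) {S : Submodule k (Tri k V)}
    (hS : ∀ T ∈ S, Slices Q T) :
    ∃ U₀, ∀ U, SlicesFour S U → ∃ r : k, U = r • U₀ := by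
  set G := tens (e.coord 1) (e.coord 2)
  set N := tens (e.coord 2) κ
  have hform : ∀ T ∈ S, ∃ r s : k, T = r • tens₃ (e.coord 0) G + s • tens₃ (e.coord 1) N := by
    intro T hT
    obtain ⟨a₁, a₂, a₃, g₁, g₂, g₃, hl, hr, hE⟩ := (hS T hT).coord hspan e
    refine ⟨a₂ 0, a₃ 1, e.ext fun i => ?_⟩
    rw [hl]
    simp only [tens_apply] at hE
    have q020 := hE 0 2 0
    have q200 := hE 2 0 0
    have q201 := hE 2 0 1
    have q202 := hE 2 0 2
    have q210 := hE 2 1 0
    have q211 := hE 2 1 1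
    have q212 := hE 2 1 2
    have q220 := hE 2 2 0
    have q221 := hE 2 2 1
    have q222 := hE 2 2 2
    have q112 := hE 1 1 2
    have q001 := hE 0 0 1
    have q101 := hE 1 0 1
    simp [G, N, Finsupp.single_apply] at q020 q200 q201 q202 q210 q211 q212 q220 q221 q222 q112 q001 q101
    have ha30 : a₃ 0 = 0 := by grind
    have ha32 : a₃ 2 = 0 := by grind
    have hg31 : g₃ 1 = 0 := by grind
    have ha10 : a₁ 0 = 0 := by grind
    have ha11 : a₁ 1 = 0 := by grind
    have ha12 : a₁ 2 = 0 := by grind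
    have ha21 : a₂ 1 = 0 := by grind
    have ha22 : a₂ 2 = 0 := by grind
    fin_cases i <;> simp [tens₃_apply, G, N, ha30, ha32, ha10, ha11, ha12, ha21, ha22]
  refine ⟨LinearMap.smulRight (e.coord 0) (tens₃ (e.coord 1) N), fun U hU => ?_⟩
  choose r s hrs using fun i => hform _ (hU.left (e i))
  have hr : ∀ i, r i = 0 := fun i => by
    obtain ⟨T, hT, h⟩ := hU.right (e 2)
    obtain ⟨u, v, rfl⟩ := hform T hT
    have h' := h (e i) (e 0) (e 1)
    rw [hrs] at h'
    fin_cases i <;> simpa [tens₃_apply, G, N, Finsupp.single_apply] using h'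
  have hs : ∀ i, i ≠ 0 → s i = 0 := fun i hi => by
    obtain ⟨T, hT, h⟩ := hU.right (e 0)
    obtain ⟨u, v, rfl⟩ := hform T hT
    have h' := h (e i) (e 1) (e 2)
    rw [hrs] at h'
    fin_cases i
    · exact absurd rfl hi
    all_goals simpa [tens₃_apply, G, N, Finsupp.single_apply, h0] using h'
  refine ⟨s 0, e.ext fun i => ?_⟩
  rw [hrs]
  fin_cases i <;> simp [hr, hs 1 (by decide), hs 2 (by decide)]

omit [FiniteDimensional k V] in
/-- The cyclic pattern. -/
theorem cyclic_end {Q : Submodule k (Bil k V)} (e : Basis (Fin 3) k V) {N : Bil k V}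
    (hspan : Q ≤ Submodule.span k
      (Set.range ![tens (e.coord 0) (e.coord 1), tens (e.coord 1) (e.coord 2), N]))
    {h b : k} (hh : h ≠ 0)
    (hN : ∀ i j, N (e i) (e j) = if i = 2 ∧ j = 0 then h else if i = 1 ∧ j = 1 then b else 0)
    {S : Submodule k (Tri k V)} (hS : ∀ T ∈ S, Slices Q T) {T T' : Tri k V} (hT : T ∈ S)
    (hT' : T' ∈ S) (hind : LinearIndependent k ![T, T']) :
    (∃ T₁ ∈ S, T₁ ≠ 0 ∧ ∀ x y z, T₁ x y z = T₁ y z x) ∨
      ∃ U₀, ∀ U, SlicesFour S U → ∃ r : k, U = r • U₀ := by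
  set F := tens (e.coord 0) (e.coord 1)
  set G := tens (e.coord 1) (e.coord 2)
  set X := tens₃ (e.coord 0) G
  set Y := tens₃ (e.coord 1) N
  set Z := h • tens₃ (e.coord 2) F
  have hform : ∀ T ∈ S, ∃ r s t : k, T = r • X + s • Y + t • Z ∧ b * (s - t) = 0 := by
    intro T hT
    obtain ⟨a₁, a₂, a₃, g₁, g₂, g₃, hl, hr, hE⟩ := (hS T hT).coord hspan e
    have q020 := hE 0 2 0
    have q001 := hE 0 0 1
    have q101 := hE 1 0 1
    have q111 := hE 1 1 1
    have q112 := hE 1 1 2
    have q200 := hE 2 0 0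
    have q201 := hE 2 0 1
    have q202 := hE 2 0 2
    have q212 := hE 2 1 2
    have q220 := hE 2 2 0
    simp [F, G, hN, Finsupp.single_apply] at q020 q001 q101 q111 q112 q200 q201 q202 q212 q220
    have ha30 : a₃ 0 = 0 := by grind
    have ha32 : a₃ 2 = 0 := by grind
    have ha10 : a₁ 0 = 0 := by grind
    have ha11 : a₁ 1 = 0 := by grind
    have ha12 : a₁ 2 = g₃ 1 * h := by grind
    have ha21 : a₂ 1 = 0 := by grind
    have ha22 : a₂ 2 = 0 := by grind
    refine ⟨a₂ 0, a₃ 1, g₃ 1, e.ext fun i => ?_, by grind⟩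
    rw [hl]
    fin_cases i <;>
      simp [tens₃_apply, X, Y, Z, F, G, ha30, ha32, ha10, ha11, ha12, ha21, ha22, smul_smul]
  have hcyc : h • X + Y + Z ∈ S → ∃ T₁ ∈ S, T₁ ≠ 0 ∧ ∀ x y z, T₁ x y z = T₁ y z x := by
    intro hc
    refine ⟨_, hc, fun h0 => hh ?_, fun x y z => ?_⟩
    · have := LinearMap.congr_fun (LinearMap.congr_fun (LinearMap.congr_fun h0 (e 0)) (e 1)) (e 2)
      simpa [tens₃_apply, X, Y, Z, F, G, Finsupp.single_apply] using this
    · have hbasis : ∀ i j l, (h • X + Y + Z) (e i) (e j) (e l) =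
          (h • X + Y + Z) (e j) (e l) (e i) := fun i j l => by
        fin_cases i <;> fin_cases j <;> fin_cases l <;>
          simp [tens₃_apply, X, Y, Z, F, G, hN, Finsupp.single_apply]
      have h1 : ∀ i j, (fun z => (h • X + Y + Z) (e i) (e j) z) =
          fun z => (h • X + Y + Z) (e j) z (e i) := fun i j => by
        funext z
        conv_lhs => rw [← e.sum_repr z]
        conv_rhs => rw [← e.sum_repr z]
        simp only [map_sum, map_smul, LinearMap.sum_apply, LinearMap.smul_apply]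
        exact Finset.sum_congr rfl fun l _ => by rw [hbasis]
      have h2 : ∀ i z, (fun y => (h • X + Y + Z) (e i) y z) =
          fun y => (h • X + Y + Z) y z (e i) := fun i z => by
        funext y
        conv_lhs => rw [← e.sum_repr y]
        conv_rhs => rw [← e.sum_repr y]
        simp only [map_sum, map_smul, LinearMap.sum_apply, LinearMap.smul_apply,
          fun j => congrFun (h1 i j) z]
      conv_lhs => rw [← e.sum_repr x]
      conv_rhs => rw [← e.sum_repr x]
      simp only [map_sum, map_smul, LinearMap.sum_apply, LinearMap.smul_apply,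
        fun i => congrFun (h2 i z) y]
  by_cases hb : b = 0
  swap
  · left
    refine hcyc ?_
    obtain ⟨r, s, t, hr, hst⟩ := hform T hT
    obtain ⟨r', s', t', hr', hst'⟩ := hform T' hT'
    obtain rfl : s = t := sub_eq_zero.mp ((mul_eq_zero.mp hst).resolve_left hb)
    obtain rfl : s' = t' := sub_eq_zero.mp ((mul_eq_zero.mp hst').resolve_left hb)
    have hd : r * s' - r' * s ≠ 0 := fun h0 => by
      rw [LinearIndependent.pair_iff] at hind
      have h1 := hind s' (-s) (by
        rw [hr, hr']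
        linear_combination (norm := module) h0 • X)
      have hs0 : s = 0 := neg_eq_zero.mp h1.2
      have hs0' : s' = 0 := h1.1
      subst hs0 hs0'
      have h2 := hind r' (-r) (by rw [hr, hr']; module)
      have hr0 : r = 0 := neg_eq_zero.mp h2.2
      exact one_ne_zero (hind 1 0 (by rw [hr, hr0]; simp)).1
    have hX : X ∈ S := by
      have := S.smul_mem (r * s' - r' * s)⁻¹ (Submodule.sub_mem S (S.smul_mem s' hT) (S.smul_mem s hT'))
      convert this using 1
      rw [eq_inv_smul_iff₀ hd, hr, hr']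
      module
    have hYZ : Y + Z ∈ S := by
      have := S.smul_mem (r * s' - r' * s)⁻¹ (Submodule.sub_mem S (S.smul_mem r hT') (S.smul_mem r' hT))
      convert this using 1
      rw [eq_inv_smul_iff₀ hd, hr, hr']
      module
    rw [add_assoc]
    exact S.add_mem (S.smul_mem h hX) hYZ
  subst hb
  by_cases hall : X ∈ S ∧ Y ∈ S ∧ Z ∈ S
  · exact Or.inl (hcyc (S.add_mem (S.add_mem (S.smul_mem h hall.1) hall.2.1) hall.2.2))
  right
  have hU : ∀ U, SlicesFour S U → ∃ x y z : k, U (e 0) = y • Y ∧ U (e 1) = z • Z ∧ U (e 2) = x • X ∧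
      (x ≠ 0 → X ∈ S ∧ Z ∈ S) ∧ (y ≠ 0 → Y ∈ S ∧ X ∈ S) ∧ (z ≠ 0 → Z ∈ S ∧ Y ∈ S) := by
    intro U hU
    choose r s t hrs _ using fun i => hform _ (hU.left (e i))
    choose R hR hUR using fun l => hU.right (e l)
    choose u v w huvw _ using fun l => hform _ (hR l)
    have hE : ∀ i j m l, (r i • X + s i • Y + t i • Z) (e j) (e m) (e l) =
        (u l • X + v l • Y + w l • Z) (e i) (e j) (e m) := fun i j m l => by
      rw [← hrs, ← huvw, hUR]
    have qx0 := hE 0 0 1 2
    have qx1 := hE 1 0 1 2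
    have qx2 := hE 2 0 1 2
    have qy0 := hE 0 1 2 0
    have qy1 := hE 1 1 2 0
    have qy2 := hE 2 1 2 0
    have qz0 := hE 0 2 0 1
    have qz1 := hE 1 2 0 1
    have qz2 := hE 2 2 0 1
    have qu2 := hE 0 1 2 2
    have qv2 := hE 1 2 0 2
    have qv0 := hE 1 2 0 0
    have qw0 := hE 2 0 1 0
    have qu1 := hE 0 1 2 1
    have qw1 := hE 2 0 1 1
    simp [tens₃_apply, X, Y, Z, F, G, hN, hh, Finsupp.single_apply]
      at qx0 qx1 qx2 qy0 qy1 qy2 qz0 qz1 qz2 qu2 qv2 qv0 qw0 qu1 qw1
    refine ⟨r 2, s 0, t 1, ?_, ?_, ?_, fun hx => ⟨?_, ?_⟩, fun hy => ⟨?_, ?_⟩, fun hz => ⟨?_, ?_⟩⟩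
    · rw [hrs]
      simp [qx0, qz0]
    · rw [hrs]
      simp [qx1, qy1]
    · rw [hrs]
      simp [qy2, qz2]
    · have := S.smul_mem (r 2)⁻¹ (hU.left (e 2))
      rwa [hrs, qy2, qz2, zero_smul, zero_smul, add_zero, add_zero, inv_smul_smul₀ hx] at this
    · have hw : w 2 ≠ 0 := fun h0 => hx (by simp [qx2, h0])
      have := S.smul_mem (w 2)⁻¹ (hR 2)
      rwa [huvw, ← qu2, qv2, zero_smul, zero_smul, zero_add, zero_add, inv_smul_smul₀ hw] at this
    · have := S.smul_mem (s 0)⁻¹ (hU.left (e 0))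
      rwa [hrs, qx0, qz0, zero_smul, zero_smul, add_zero, zero_add, inv_smul_smul₀ hy] at this
    · have hu : u 0 ≠ 0 := fun h0 => hy (by simpa [h0, hh] using qy0)
      have := S.smul_mem (u 0)⁻¹ (hR 0)
      rwa [huvw, qv0, qw0, zero_smul, zero_smul, add_zero, add_zero, inv_smul_smul₀ hu] at this
    · have := S.smul_mem (t 1)⁻¹ (hU.left (e 1))
      rwa [hrs, qx1, qy1, zero_smul, zero_smul, zero_add, zero_add, inv_smul_smul₀ hz] at this
    · have hv : v 1 ≠ 0 := fun h0 => hz (by simpa [h0, hh] using qz1)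
      have := S.smul_mem (v 1)⁻¹ (hR 1)
      rwa [huvw, ← qu1, qw1, zero_smul, zero_smul, add_zero, zero_add, inv_smul_smul₀ hv] at this
  rcases not_and_or.mp hall with hX | hYZ
  · refine ⟨LinearMap.smulRight (e.coord 1) Z, fun U hU' => ?_⟩
    obtain ⟨x, y, z, h0, h1, h2, hx, hy, hz⟩ := hU U hU'
    refine ⟨z, e.ext fun i => ?_⟩
    fin_cases i
    · simp [h0, (by_contra fun hne => hX (hy hne).2 : y = 0)]
    · simp [h1]
    · simp [h2, (by_contra fun hne => hX (hx hne).1 : x = 0)]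
  · rcases not_and_or.mp hYZ with hY | hZ
    · refine ⟨LinearMap.smulRight (e.coord 2) X, fun U hU' => ?_⟩
      obtain ⟨x, y, z, h0, h1, h2, hx, hy, hz⟩ := hU U hU'
      refine ⟨x, e.ext fun i => ?_⟩
      fin_cases i
      · simp [h0, (by_contra fun hne => hY (hy hne).1 : y = 0)]
      · simp [h1, (by_contra fun hne => hY (hz hne).2 : z = 0)]
      · simp [h2]
    · refine ⟨LinearMap.smulRight (e.coord 0) Y, fun U hU' => ?_⟩
      obtain ⟨x, y, z, h0, h1, h2, hx, hy, hz⟩ := hU U hU'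
      refine ⟨y, e.ext fun i => ?_⟩
      fin_cases i
      · simp [h0]
      · simp [h1, (by_contra fun hne => hZ (hz hne).1 : z = 0)]
      · simp [h2, (by_contra fun hne => hZ (hx hne).2 : x = 0)]

omit [FiniteDimensional k V] in
theorem chain_independent {Q : Submodule k (Bil k V)} (hQ : Skewish Q) {f g h : Dual k V}
    (hf : f ≠ 0) (hg : g ≠ 0) (hh : h ≠ 0) (hfg : tens f g ∈ Q) (hgh : tens g h ∈ Q) :
    LinearIndependent k ![f, g, h] := by
  have hval : ∀ {φ : Dual k V}, φ ≠ 0 → ∃ x, φ x ≠ 0 := fun hφ => by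
    by_contra h
    push Not at h
    exact hφ (LinearMap.ext h)
  have hpair : ∀ c : k, f ≠ c • g := fun c hc => by
    have h0 := hQ.eq_zero _ hfg fun x y => by simp [hc]; ring
    obtain ⟨x, hx⟩ := hval hf
    obtain ⟨y, hy⟩ := hval hg
    have := LinearMap.congr_fun (LinearMap.congr_fun h0 x) y
    rw [tens_apply, LinearMap.zero_apply, LinearMap.zero_apply] at this
    exact mul_ne_zero hx hy this
  obtain ⟨x, hgx, hfx⟩ : ∃ x, g x = 0 ∧ f x ≠ 0 := by
    by_contra hcon
    push Not at hcon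
    obtain ⟨z, hz⟩ := hval hg
    refine hpair (f z / g z) (LinearMap.ext fun w => ?_)
    have := hcon (w - (g w / g z) • z) (by simp [hz])
    simp [sub_eq_zero] at this
    rw [this, LinearMap.smul_apply, smul_eq_mul]
    ring
  refine linearIndependent_three fun r s t hsum => ?_
  have ht : t = 0 := by
    by_contra ht
    set α := -r / t
    set β := -s / t
    have hexp : h = α • f + β • g := by
      rw [← smul_right_inj ht, smul_add, smul_smul, smul_smul, mul_div_cancel₀ _ ht,
        mul_div_cancel₀ _ ht]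
      linear_combination (norm := module) hsum
    have hz := hQ.eq_zero _ (Q.add_mem hgh (Q.smul_mem α hfg)) fun a b => by
      simp [hexp]; ring
    have hb : ∀ b, α * g b = 0 := fun b => by
      have := LinearMap.congr_fun (LinearMap.congr_fun hz x) b
      simp [hgx, hfx] at this
      rcases this with h | h <;> simp [h]
    obtain ⟨b, hb'⟩ := hval hg
    have hα : α = 0 := (mul_eq_zero.mp (hb b)).resolve_right hb'
    have hz' := hQ.eq_zero _ hgh fun a c => by simp [hexp, hα]; ring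
    obtain ⟨c, hc⟩ := hval hh
    have := LinearMap.congr_fun (LinearMap.congr_fun hz' b) c
    rw [tens_apply, LinearMap.zero_apply, LinearMap.zero_apply] at this
    exact mul_ne_zero hb' hc this
  subst ht
  rw [zero_smul, add_zero] at hsum
  have hr : r = 0 := by
    by_contra hr
    refine hpair (-s / r) ?_
    rw [← smul_right_inj hr, smul_smul, mul_div_cancel₀ _ hr]
    linear_combination (norm := module) hsum
  subst hr
  rw [zero_smul, zero_add] at hsum
  exact ⟨rfl, (smul_eq_zero.mp hsum).resolve_right hg, rfl⟩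

/-- Unless `S` contains a cyclic form, the quadrilinear forms over two independent members of `S`
are multiples of one. -/
theorem main [IsAlgClosed k] {Q : Submodule k (Bil k V)} (hQ : Skewish Q)
    {S : Submodule k (Tri k V)} (hS : ∀ T ∈ S, Slices Q T) {T T' : Tri k V} (hT : T ∈ S)
    (hT' : T' ∈ S) (hind : LinearIndependent k ![T, T']) :
    (finrank k Q = 3 ∧ ∃ T₁ ∈ S, T₁ ≠ 0 ∧ ∀ x y z, T₁ x y z = T₁ y z x) ∨
      ∃ U₀, ∀ U, SlicesFour S U → ∃ r : k, U = r • U₀ := by
  obtain ⟨f, g, h, hf, hg, hh, hfg, hgh⟩ := hasChain_of_two hQ (hS T hT) (hS T' hT') hind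
  obtain ⟨e, he⟩ := exists_dual_basis hQ.dim _ (chain_independent hQ hf hg hh hfg hgh)
  obtain rfl : f = e.coord 0 := e.ext fun j => by simpa [Finsupp.single_apply, eq_comm] using he 0 j
  obtain rfl : g = e.coord 1 := e.ext fun j => by simpa [Finsupp.single_apply, eq_comm] using he 1 j
  obtain rfl : h = e.coord 2 := e.ext fun j => by simpa [Finsupp.single_apply, eq_comm] using he 2 j
  -- the third form
  obtain ⟨N₀, hN₀, hN₀'⟩ : ∃ N ∈ Q, N ∉ Submodule.span k
      {tens (e.coord 0) (e.coord 1), tens (e.coord 1) (e.coord 2)} := by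
    by_contra hcon
    push Not at hcon
    have hsp : Q ≤ Submodule.span k
        (Set.range ![tens (e.coord 0) (e.coord 1), tens (e.coord 1) (e.coord 2), (0 : Bil k V)]) :=
      fun N hN => Submodule.span_mono (by
        rintro _ (rfl | rfl)
        exacts [⟨0, rfl⟩, ⟨1, rfl⟩]) (hcon N hN)
    have hprop : ∀ U ∈ S, ∃ r : k, U = r • tens₃ (e.coord 0) (tens (e.coord 1) (e.coord 2)) := by
      intro U hU
      obtain ⟨a₁, a₂, a₃, g₁, g₂, g₃, hl, hr, hE⟩ := (hS U hU).coord hsp e
      have q001 := hE 0 0 1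
      have q101 := hE 1 0 1
      have q201 := hE 2 0 1
      have q112 := hE 1 1 2
      have q212 := hE 2 1 2
      simp [Finsupp.single_apply] at q001 q101 q201 q112 q212
      refine ⟨a₂ 0, e.ext fun i => ?_⟩
      rw [hl]
      fin_cases i <;> simp [tens₃_apply, q001, q101, q201, q112, q212]
    obtain ⟨r, hr⟩ := hprop T hT
    obtain ⟨s, hs⟩ := hprop T' hT'
    rw [LinearIndependent.pair_iff] at hind
    have h2 := hind s (-r) (by rw [hr, hs]; module)
    exact one_ne_zero (hind 1 0 (by rw [hr, neg_eq_zero.mp h2.2]; simp)).1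
  set F := tens (e.coord 0) (e.coord 1) with hF
  set G := tens (e.coord 1) (e.coord 2) with hG
  set N := N₀ - N₀ (e 0) (e 1) • F - N₀ (e 1) (e 2) • G with hNdef
  have hN : N ∈ Q := Q.sub_mem (Q.sub_mem hN₀ (Q.smul_mem _ hfg)) (Q.smul_mem _ hgh)
  have hN01 : N (e 0) (e 1) = 0 := by simp [hNdef, hF, hG, Finsupp.single_apply]
  have hN12 : N (e 1) (e 2) = 0 := by simp [hNdef, hF, hG, Finsupp.single_apply]
  have hNout : N ∉ Submodule.span k {F, G} := fun hc => hN₀' (by
    have hFm : F ∈ Submodule.span k {F, G} := Submodule.subset_span (by simp)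
    have hGm : G ∈ Submodule.span k {F, G} := Submodule.subset_span (by simp)
    have := add_mem (add_mem hc (Submodule.smul_mem _ (N₀ (e 0) (e 1)) hFm))
      (Submodule.smul_mem _ (N₀ (e 1) (e 2)) hGm)
    convert this using 1
    rw [hNdef]
    abel)
  have hgh' : N (e 0) (e 2) ≠ N (e 2) (e 0) := fun heq => by
    have hz := hQ.ext_alt e (Q.add_mem (Q.add_mem hN (Q.smul_mem (N (e 1) (e 0)) hfg))
      (Q.smul_mem (N (e 2) (e 1)) hgh))
      (by simp [hF, hG, hN01, Finsupp.single_apply]) (by simp [hF, hG, heq, Finsupp.single_apply])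
      (by simp [hF, hG, hN12, Finsupp.single_apply])
    refine hNout (Submodule.mem_span_pair.mpr ⟨-N (e 1) (e 0), -N (e 2) (e 1), ?_⟩)
    linear_combination (norm := module) -hz
  have hind3 : ∀ r s t : k, r • F + s • G + t • N = 0 → r = 0 ∧ s = 0 ∧ t = 0 :=
    fun r s t h => by
      obtain rfl : t = 0 := by
        by_contra ht
        refine hNout (Submodule.mem_span_pair.mpr ⟨-r / t, -s / t, ?_⟩)
        rw [← smul_right_inj ht, smul_add, smul_smul, smul_smul, mul_div_cancel₀ _ ht,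
          mul_div_cancel₀ _ ht]
        linear_combination (norm := module) -h
      have h1 := LinearMap.congr_fun (LinearMap.congr_fun h (e 0)) (e 1)
      have h2 := LinearMap.congr_fun (LinearMap.congr_fun h (e 1)) (e 2)
      simp [hF, hG, Finsupp.single_apply] at h1 h2
      exact ⟨h1, h2, rfl⟩
  have hspan : Q ≤ Submodule.span k (Set.range ![F, G, N]) := hQ.span_three hfg hgh hN hind3
  have hQ3 : finrank k Q = 3 := by
    refine le_antisymm hQ.finrank_le ?_
    have h := Submodule.finrank_mono (show Submodule.span k (Set.range ![F, G, N]) ≤ Q from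
      Submodule.span_le.mpr (by
        rintro _ ⟨i, rfl⟩
        fin_cases i <;> assumption))
    rwa [finrank_span_eq_card (linearIndependent_three hind3), Fintype.card_fin] at h
  obtain ⟨a, ha⟩ : ∃ v, N (e 0) (e 0) = v := ⟨_, rfl⟩
  obtain ⟨b, hb⟩ : ∃ v, N (e 1) (e 1) = v := ⟨_, rfl⟩
  obtain ⟨c, hc⟩ : ∃ v, N (e 2) (e 2) = v := ⟨_, rfl⟩
  obtain ⟨d, hd⟩ : ∃ v, N (e 1) (e 0) = v := ⟨_, rfl⟩
  obtain ⟨e', he'⟩ : ∃ v, N (e 2) (e 1) = v := ⟨_, rfl⟩
  obtain ⟨u, hu⟩ : ∃ v, N (e 0) (e 2) = v := ⟨_, rfl⟩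
  obtain ⟨w, hw⟩ : ∃ v, N (e 2) (e 0) = v := ⟨_, rfl⟩
  rw [hu, hw] at hgh'
  -- the shape
  have hshape : (a = 0 ∧ b = 0 ∧ d = 0 ∧ u = 0) ∨ (c = 0 ∧ e' = 0 ∧ b = 0 ∧ u = 0) ∨
      (a = 0 ∧ c = 0 ∧ d = 0 ∧ e' = 0 ∧ u = 0) := by
    by_contra hcon
    simp only [not_or, not_and] at hcon
    have hprop : ∀ U ∈ S, ∃ r : k, U = r • tens₃ (e.coord 0) G := by
      intro U hU
      obtain ⟨a₁, a₂, a₃, g₁, g₂, g₃, hl, hr, hE⟩ := (hS U hU).coord hspan e
      have q000 := hE 0 0 0
      have q002 := hE 0 0 2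
      have q100 := hE 1 0 0
      have q102 := hE 1 0 2
      have q200 := hE 2 0 0
      have q202 := hE 2 0 2
      have q110 := hE 1 1 0
      have q111 := hE 1 1 1
      have q210 := hE 2 1 0
      have q211 := hE 2 1 1
      have q020 := hE 0 2 0
      have q021 := hE 0 2 1
      have q022 := hE 0 2 2
      have q220 := hE 2 2 0
      have q221 := hE 2 2 1
      have q222 := hE 2 2 2
      have q001 := hE 0 0 1
      have q101 := hE 1 0 1
      have q201 := hE 2 0 1
      have q112 := hE 1 1 2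
      have q212 := hE 2 1 2
      simp [hF, hG, Finsupp.single_apply, hN01, hN12, ha, hb, hc, hd, he', hu, hw]
        at q000 q002 q100 q102 q200 q202 q110 q111 q210 q211 q020 q021 q022 q220 q221 q222 q001 q101
          q201 q112 q212
      have hg32 : g₃ 2 = 0 := by grind
      have ha32 : a₃ 2 = 0 := by grind
      have hg30 : g₃ 0 = 0 := by grind
      have ha30 : a₃ 0 = 0 := by grind
      have hg31 : g₃ 1 = 0 := by grind
      have ha31 : a₃ 1 = 0 := by grind
      refine ⟨a₂ 0, e.ext fun i => ?_⟩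
      rw [hl]
      have h11 : a₁ 0 = 0 ∧ a₁ 1 = 0 ∧ a₁ 2 = 0 ∧ a₂ 1 = 0 ∧ a₂ 2 = 0 := by grind
      fin_cases i <;> simp [tens₃_apply, ha30, ha31, ha32, h11]
    obtain ⟨r, hr⟩ := hprop T hT
    obtain ⟨s, hs⟩ := hprop T' hT'
    rw [LinearIndependent.pair_iff] at hind
    have h2 := hind s (-r) (by rw [hr, hs]; module)
    exact one_ne_zero (hind 1 0 (by rw [hr, neg_eq_zero.mp h2.2]; simp)).1
  have hNij : ∀ i j, N (e i) (e j) = ![![a, 0, u], ![d, b, 0], ![w, e', c]] i j := fun i j => by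
    fin_cases i <;> fin_cases j <;> simp [ha, hb, hc, hd, he', hu, hw, hN01, hN12]
  by_cases hcy : a = 0 ∧ c = 0 ∧ d = 0 ∧ e' = 0 ∧ u = 0
  · obtain ⟨rfl, rfl, rfl, rfl, rfl⟩ := hcy
    exact (cyclic_end e hspan hgh'.symm (b := b) (fun i j => by
      rw [hNij]; fin_cases i <;> fin_cases j <;> simp) hS hT hT' hind).imp_left fun h => ⟨hQ3, h⟩
  right
  rcases hshape with ⟨rfl, rfl, rfl, rfl⟩ | ⟨rfl, rfl, rfl, rfl⟩ | h
  · have hNeq : N = tens (e.coord 2) (N (e 2)) := by
      refine e.ext fun i => e.ext fun j => ?_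
      fin_cases i <;> fin_cases j <;>
        simp [hNij, ha, hb, hc, hd, he', hu, hw, hN01, hN12, Finsupp.single_apply]
    rw [hNeq] at hspan
    refine chain_end e hspan (by rw [hw]; exact hgh'.symm) ?_ hS
    rw [he', hc]
    tauto
  · -- the chain starting with the first column
    set κ := N.flip (e 0)
    have hNeq : N = tens κ (e.coord 0) := by
      refine e.ext fun i => e.ext fun j => ?_
      fin_cases i <;> fin_cases j <;>
        simp [κ, hNij, ha, hb, hc, hd, he', hu, hw, hN01, hN12, Finsupp.single_apply]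
    have hw0 : w ≠ 0 := hgh'.symm
    have hκ : κ = a • e.coord 0 + d • e.coord 1 + w • e.coord 2 := e.ext fun i => by
      fin_cases i <;> simp [κ, ha, hd, hw, Finsupp.single_apply]
    have hli : LinearIndependent k ![κ, e.coord 0, e.coord 1] := linearIndependent_three fun r s t h => by
      have h2 := LinearMap.congr_fun h (e 2)
      simp [κ, hw, Finsupp.single_apply, hw0] at h2
      subst h2
      have h0 := LinearMap.congr_fun h (e 0)
      have h1 := LinearMap.congr_fun h (e 1)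
      simp [Finsupp.single_apply] at h0 h1
      exact ⟨rfl, h0, h1⟩
    obtain ⟨v, hv⟩ := exists_dual_basis hQ.dim _ hli
    have v0 : κ = v.coord 0 := v.ext fun j => by simpa [Finsupp.single_apply, eq_comm] using hv 0 j
    have v1 : e.coord 0 = v.coord 1 := v.ext fun j => by simpa [Finsupp.single_apply, eq_comm] using hv 1 j
    have v2 : e.coord 1 = v.coord 2 := v.ext fun j => by simpa [Finsupp.single_apply, eq_comm] using hv 2 j
    have hsp' : Q ≤ Submodule.span k
        (Set.range ![tens (v.coord 0) (v.coord 1), tens (v.coord 1) (v.coord 2),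
          tens (v.coord 2) (e.coord 2)]) := by
      refine hspan.trans (Submodule.span_le.mpr ?_)
      rintro _ ⟨i, rfl⟩
      refine Submodule.subset_span ?_
      fin_cases i
      · exact ⟨1, by simp [hF, v1, v2]⟩
      · exact ⟨2, by simp [hG, v2]⟩
      · exact ⟨0, by simp [hNeq, v0, v1]⟩
    have hk : ∀ j, e.coord 2 (v j) =
        w⁻¹ * (v.coord 0 (v j) - a * v.coord 1 (v j) - d * v.coord 2 (v j)) := fun j => by
      rw [← v0, ← v1, ← v2, hκ]
      simp
      field_simp
      ring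
    refine chain_end v hsp' (by rw [hk]; simp [hw0, Finsupp.single_apply]) ?_ hS
    simp [hk, hw0, Finsupp.single_apply]
    tauto
  · exact absurd h hcy

end Cfsg.Agent.BlockFive
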