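import Cfsg.Agent.Lib.BlockFive.Layers

/-!
# Deep local symmetric algebras with two generators

`two_gen_false`: with two generators and few classes of commutators no layer above the fourth
survives.
-/

set_option autoImplicit false
set_option maxSynthPendingDepth 3

namespace Cfsg.Agent.BlockFive

open Module Cfsg.Agent.BlockFour

variable {k : Type*} [Field k] {A : Type*} [Ring A] [Algebra k A]
variable {J : Submodule k A} {τ : Dual k A} {n : ℕ}

theorem mem_sup_of_mkQ {W : Submodule k A} {x w : A} (t : k) (h : W.mkQ x = t • W.mkQ w) :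
    x ∈ Submodule.span k {w} ⊔ W := by
  rw [← map_smul, Submodule.mkQ_apply, Submodule.mkQ_apply, Submodule.Quotient.eq] at h
  rw [← add_sub_cancel (t • w) x]
  exact Submodule.add_mem_sup (Submodule.smul_mem _ _ (Submodule.mem_span_singleton_self w)) h

/-- The next layer from products with the generators. -/
theorem next_le {ι : Type*} (e : ι → A) (he : ∀ i, e i ∈ J)
    (hgen : J ≤ Submodule.span k (Set.range e) ⊔ J ^ 2) {S : Set A} {m : ℕ}
    (hm : J ^ m ≤ Submodule.span k S ⊔ J ^ (m + 1)) {T : Submodule k A}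
    (hT : J ^ (m + 2) ≤ T) (h : ∀ i, ∀ s ∈ S, e i * s ∈ T) : J ^ (m + 1) ≤ T := by
  have hspan : Submodule.span k (Set.range e) ≤ J :=
    Submodule.span_le.mpr (Set.range_subset_iff.mpr he)
  rw [pow_succ']
  refine (mul_le_mul' hgen le_rfl).trans ?_
  rw [Submodule.sup_mul]
  refine sup_le ((mul_le_mul' le_rfl hm).trans ?_) ?_
  · rw [Submodule.mul_sup, Submodule.span_mul_span]
    refine sup_le (Submodule.span_le.mpr ?_) ((mul_le_mul' hspan le_rfl).trans ?_)
    · rintro _ ⟨_, ⟨i, rfl⟩, s, hs, rfl⟩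
      exact h i s hs
    · rwa [← pow_succ' J]
  · rw [← pow_add, add_comm]
    exact hT

/-- Two generators modulo the square. -/
structure GenTwo (J : Submodule k A) (a b : A) : Prop where
  ha : a ∈ J
  hb : b ∈ J
  gen : J ≤ Submodule.span k {a, b} ⊔ J ^ 2

theorem GenTwo.range {a b : A} (h : GenTwo J a b) :
    (∀ i, (![a, b] : Fin 2 → A) i ∈ J) ∧ J ≤ Submodule.span k (Set.range ![a, b]) ⊔ J ^ 2 := by
  refine ⟨fun i => by fin_cases i; exacts [h.ha, h.hb], h.gen.trans (sup_le_sup_right ?_ _)⟩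
  refine Submodule.span_mono ?_
  rintro _ (rfl | rfl)
  exacts [⟨0, rfl⟩, ⟨1, rfl⟩]

theorem GenTwo.swap {a b : A} (h : GenTwo J a b) : GenTwo J b a :=
  ⟨h.hb, h.ha, by rw [Set.pair_comm]; exact h.gen⟩

theorem GenTwo.shift {a b : A} (h : GenTwo J a b) (s : k) : GenTwo J a (b + s • a) := by
  refine ⟨h.ha, J.add_mem h.hb (J.smul_mem s h.ha), h.gen.trans (sup_le_sup_right ?_ _)⟩
  refine Submodule.span_le.mpr (Set.insert_subset ?_ (Set.singleton_subset_iff.mpr ?_))
  · exact Submodule.subset_span (by simp)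
  · rw [SetLike.mem_coe]
    rw [← add_sub_cancel_right b (s • a)]
    exact Submodule.sub_mem _ (Submodule.subset_span (by simp))
      (Submodule.smul_mem _ _ (Submodule.subset_span (by simp)))

theorem GenTwo.scale {a b : A} (h : GenTwo J a b) {s : k} (hs : s ≠ 0) : GenTwo J a (s • b) := by
  refine ⟨h.ha, J.smul_mem s h.hb, h.gen.trans (sup_le_sup_right ?_ _)⟩
  refine Submodule.span_le.mpr (Set.insert_subset ?_ (Set.singleton_subset_iff.mpr ?_))
  · exact Submodule.subset_span (by simp)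
  · rw [SetLike.mem_coe]
    convert Submodule.smul_mem _ s⁻¹ (Submodule.subset_span (R := k) (s := {a, s • b})
      (show s • b ∈ _ by simp)) using 1
    rw [inv_smul_smul₀ hs]

theorem brL_apply' (x y : A) : LinearMap.mulLeft k x y - LinearMap.mulRight k x y = x * y - y * x := rfl

/-- The commutators of two generators. -/
theorem GenTwo.commSpan_le {a b : A} (hd : Deep J τ n) (h : GenTwo J a b) {κ : A}
    (hκ : κ ∈ commSpan J) : ∃ θ : k, ∃ h₁ ∈ J ^ 2, ∃ h₂ ∈ J ^ 2, ∃ j ∈ J ^ 5,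
      κ = θ • (a * b - b * a) + ((a * h₁ - h₁ * a) + (b * h₂ - h₂ * b) + j) := by
  let W : Submodule k A := (J ^ 2).map (brL a) ⊔ (J ^ 2).map (brL b) ⊔ J ^ 5
  have hle := BlockFive.commSpan_le hd.hJJ ![a, b] h.range.1 h.range.2 W (fun i x hx => by
    refine Submodule.mem_sup_left ?_
    fin_cases i
    · exact Submodule.mem_sup_left ⟨x, hx, rfl⟩
    · exact Submodule.mem_sup_right ⟨x, hx, rfl⟩) le_sup_right
  obtain ⟨u, hu, w, hw, rfl⟩ := Submodule.mem_sup.mp (hle hκ)
  obtain ⟨v, hv, j, hj, rfl⟩ := Submodule.mem_sup.mp hw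
  obtain ⟨_, ⟨h₁, hh₁, rfl⟩, _, ⟨h₂, hh₂, rfl⟩, rfl⟩ := Submodule.mem_sup.mp hv
  have hu' : u ∈ Submodule.span k {a * b - b * a} := by
    refine (Submodule.span_le.mpr ?_) hu
    rintro _ ⟨i, l, rfl⟩
    fin_cases i <;> fin_cases l
    · simp
    · exact Submodule.mem_span_singleton_self _
    · exact Submodule.mem_span_singleton.mpr ⟨-1, by simp⟩
    · simp
  obtain ⟨θ, rfl⟩ := Submodule.mem_span_singleton.mp hu'
  exact ⟨θ, h₁, hh₁, h₂, hh₂, j, hj, by rw [brL_apply, brL_apply]⟩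

/-- A commutator with the square is in the cube. -/
theorem Deep.br_mem (hd : Deep J τ n) {x y : A} (hx : x ∈ J) (hy : y ∈ J ^ 2) :
    x * y - y * x ∈ J ^ 3 :=
  Submodule.sub_mem _ (mul_mem_pow_add (mem_pow_one hx) hy) (mul_mem_pow_add hy (mem_pow_one hx))

theorem GenTwo.coeff_eq_zero {a b : A} (hd : Deep J τ n) (h : GenTwo J a b)
    (hc : a * b - b * a ∉ J ^ 3) {θ : k} {h₁ h₂ j : A} (hh₁ : h₁ ∈ J ^ 2) (hh₂ : h₂ ∈ J ^ 2)
    (hj : j ∈ J ^ 5)
    (hκ : θ • (a * b - b * a) + ((a * h₁ - h₁ * a) + (b * h₂ - h₂ * b) + j) ∈ J ^ 3) : θ = 0 := by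
  by_contra hθ
  refine hc ((Submodule.smul_mem_iff _ hθ).mp ?_)
  have hrest : (a * h₁ - h₁ * a) + (b * h₂ - h₂ * b) + j ∈ J ^ 3 := add_mem
    (add_mem (hd.br_mem h.ha hh₁) (hd.br_mem h.hb hh₂)) (hd.mono (by omega) (by omega) hj)
  simpa using Submodule.sub_mem _ hκ hrest

/-- No layer up to the fourth is a line, when the cube consists of commutators. -/
theorem GenTwo.not_line {a b : A} (hd : Deep J τ n) (h : GenTwo J a b)
    (h3 : J ^ 3 ≤ commSpan J ⊔ J ^ 4) (hc : a * b - b * a ∈ J ^ 3 → IsLine J 2) {m : ℕ}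
    (hm : 2 ≤ m) (hm' : m ≤ 4) : ¬ IsLine J m := by
  intro hline
  have hn := hd.five
  have hlast : IsLine J (n - 1) := hline.mono hd.hJJ hm (by omega)
  -- the commutator of the generators at the top
  have hcu : a * b - b * a ∈ J ^ 3 → ∀ u ∈ J ^ (n - 3), τ ((a * b - b * a) * u) = 0 := by
    intro hc3 u hu
    obtain ⟨g, hg, hg2, hpow⟩ := (hc hc3).exists_power hd
    obtain ⟨v, hv, r, hr, he⟩ := Submodule.mem_sup.mp (hpow (n - 3) (by omega) (by omega) hu)
    obtain ⟨t, rfl⟩ := Submodule.mem_span_singleton.mp hv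
    have hr0 : τ ((a * b - b * a) * r) = 0 :=
      hlast.commute hd h.ha h.hb (by rwa [show n - 2 = n - 3 + 1 by omega])
    obtain ⟨z, hz, h₂, hh₂, hge⟩ := Submodule.mem_sup.mp (h.gen hg)
    obtain ⟨p, q, rfl⟩ := Submodule.mem_span_pair.mp hz
    have hgg : ∀ x : A, τ ((g * x - x * g) * g ^ (n - 3)) = 0 := fun x => by
      rw [sub_mul, map_sub, mul_assoc g, hd.symm g, mul_assoc x, mul_assoc x, ← pow_succ,
        ← pow_succ', sub_self]
    have hgpow : g ^ (n - 3) ∈ J ^ (n - 3) := by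
      obtain ⟨i, hi⟩ : ∃ i, n - 3 = i + 1 := ⟨n - 4, by omega⟩
      rw [hi]
      exact pow_mem hg i
    have hdeep : ∀ x ∈ J, τ ((h₂ * x - x * h₂) * g ^ (n - 3)) = 0 := fun x hx => by
      rw [← neg_sub, neg_mul, map_neg, hlast.commute_deep hd hx hgpow hh₂, neg_zero]
    have h1 := hgg b
    have h2 := hgg a
    rw [← hge, show (p • a + q • b + h₂) * b - b * (p • a + q • b + h₂) =
      p • (a * b - b * a) + (h₂ * b - b * h₂) by
        simp only [add_mul, mul_add, smul_mul_assoc, mul_smul_comm, smul_sub]; abel,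
      hge, add_mul, map_add, hdeep b h.hb, add_zero, smul_mul_assoc, map_smul, smul_eq_mul] at h1
    rw [← hge, show (p • a + q • b + h₂) * a - a * (p • a + q • b + h₂) =
      (-q) • (a * b - b * a) + (h₂ * a - a * h₂) by
        simp only [add_mul, mul_add, smul_mul_assoc, mul_smul_comm, smul_sub, neg_smul]; abel,
      hge, add_mul, map_add, hdeep a h.ha, add_zero, smul_mul_assoc, map_smul, smul_eq_mul] at h2
    have h0 : τ ((a * b - b * a) * g ^ (n - 3)) = 0 := by
      by_contra hne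
      have hp : p = 0 := (mul_eq_zero.mp h1).resolve_right hne
      have hq : q = 0 := neg_eq_zero.mp ((mul_eq_zero.mp h2).resolve_right hne)
      refine hg2 ?_
      rw [← hge, hp, hq, zero_smul, zero_smul, zero_add, zero_add]
      exact hh₂
    rw [← he, mul_add, mul_smul_comm, map_add, map_smul, hr0, h0, smul_zero, add_zero]
  obtain ⟨v, hv, hv0⟩ := hd.nonzero
  refine hv0 ?_
  rw [show n = 3 + (n - 3) by omega, pow_add] at hv
  refine (Submodule.mul_le.mpr fun x hx u hu => ?_ : J ^ 3 * J ^ (n - 3) ≤ LinearMap.ker τ) hv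
  obtain ⟨κ, hκ, r, hr, rfl⟩ := Submodule.mem_sup.mp (h3 hx)
  have hκ3 : κ ∈ J ^ 3 := by
    simpa using Submodule.sub_mem _ hx (hd.mono (by omega) (show 3 ≤ 4 by omega) hr)
  obtain ⟨θ, h₁, hh₁, h₂, hh₂, j, hj, rfl⟩ := h.commSpan_le hd hκ
  rw [LinearMap.mem_ker, add_mul, map_add, hd.mul_eq_zero hr hu (by omega), map_zero, add_zero,
    add_mul, add_mul, add_mul, map_add, map_add, map_add, hd.mul_eq_zero hj hu (by omega), map_zero,
    hlast.commute_deep hd h.ha hu hh₁, hlast.commute_deep hd h.hb hu hh₂, add_zero, add_zero,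
    add_zero, smul_mul_assoc, map_smul, smul_eq_mul]
  by_cases hc3 : a * b - b * a ∈ J ^ 3
  · rw [hcu hc3 u hu, mul_zero]
  · rw [h.coeff_eq_zero hd hc3 hh₁ hh₂ hj hκ3, zero_mul]

section Products

variable (hJJ : J * J ≤ J) {a b : A} (h : GenTwo J a b)

local notation "π" => Submodule.mkQ (J ^ 4)

include hJJ h in
/-- Equalities in the third layer: one square not spanned by commutators. -/
theorem rank_one_line (hd : Deep J τ n) (hc : a * b - b * a ∉ J ^ 3) (h3 : J ^ 3 ≤ commSpan J ⊔ J ^ 4)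
    (h2 : J ^ 2 ≤ Submodule.span k {a * a, a * b - b * a} ⊔ J ^ 3) {γ δ : k}
    (hab : a * b - γ • (a * b - b * a) ∈ J ^ 3) (hbb : b * b - δ • (a * b - b * a) ∈ J ^ 3) :
    IsLine J 3 := by
  set c := a * b - b * a with hcdef
  have hJ4 : ∀ {x y : A}, x - y ∈ J ^ 3 → ∀ {z : A}, z ∈ J → π (z * x) = π (z * y) ∧ π (x * z) = π (y * z) :=
    by
    intro x y hxy z hz
    constructor
    · rw [Submodule.mkQ_apply, Submodule.mkQ_apply, Submodule.Quotient.eq, ← mul_sub]
      exact mul_mem_pow_add (mem_pow_one hz) hxy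
    · rw [Submodule.mkQ_apply, Submodule.mkQ_apply, Submodule.Quotient.eq, ← sub_mul]
      exact mul_mem_pow_add hxy (mem_pow_one hz)
  have hba : b * a - (γ - 1) • c ∈ J ^ 3 := by
    have e : b * a - (γ - 1) • c = a * b - γ • c := by rw [sub_smul, one_smul, hcdef]; abel
    rw [e]; exact hab
  have hsm : ∀ (t : k) (z x : A), π (z * (t • x)) = t • π (z * x) := fun t z x => by
    rw [mul_smul_comm, map_smul]
  have hsm' : ∀ (t : k) (z x : A), π ((t • x) * z) = t • π (x * z) := fun t z x => by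
    rw [smul_mul_assoc, map_smul]
  -- the associativity relations
  have q1 : (γ - 1) • π (a * c) = γ • π (c * a) := by
    rw [← hsm, ← hsm', ← (hJ4 hba h.ha).1, ← (hJ4 hab h.ha).2, mul_assoc]
  have q2 : (γ - 1) • π (c * b) = γ • π (b * c) := by
    rw [← hsm', ← hsm, ← (hJ4 hba h.hb).2, ← (hJ4 hab h.hb).1, mul_assoc]
  have q3 : δ • π (c * a) = (γ - 1) • π (b * c) := by
    rw [← hsm', ← hsm, ← (hJ4 hbb h.ha).2, ← (hJ4 hba h.hb).1, mul_assoc]
  have q4 : γ • π (c * b) = δ • π (a * c) := by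
    rw [← hsm', ← hsm, ← (hJ4 hab h.hb).2, ← (hJ4 hbb h.ha).1, mul_assoc]
  obtain ⟨w, hac, hca, hbc, hcb⟩ : ∃ w, (∃ t : k, π (a * c) = t • π w) ∧ (∃ t : k, π (c * a) = t • π w) ∧
      (∃ t : k, π (b * c) = t • π w) ∧ ∃ t : k, π (c * b) = t • π w := by
    by_cases hγ : γ = 0
    · subst hγ
      refine ⟨c * a, ⟨0, ?_⟩, ⟨1, (one_smul _ _).symm⟩, ⟨-δ, ?_⟩, ⟨0, ?_⟩⟩
      · linear_combination (norm := module) -q1
      · linear_combination (norm := module) q3
      · linear_combination (norm := module) -q2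
    · have e4 : π (c * b) = (δ / γ) • π (a * c) := by
        rw [← smul_right_inj hγ, smul_smul, mul_div_cancel₀ _ hγ, q4]
      refine ⟨a * c, ⟨1, (one_smul _ _).symm⟩, ⟨(γ - 1) / γ, ?_⟩,
        ⟨(γ - 1) / γ * (δ / γ), ?_⟩, ⟨_, e4⟩⟩
      · rw [← smul_right_inj hγ, smul_smul, mul_div_cancel₀ _ hγ, q1]
      · rw [← smul_right_inj hγ, ← q2, e4, smul_smul, smul_smul, ← mul_assoc,
          mul_div_cancel₀ _ hγ]
  refine ⟨w, ?_⟩
  -- the cube consists of commutators
  intro x hx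
  obtain ⟨κ, hκ, r, hr, rfl⟩ := Submodule.mem_sup.mp (h3 hx)
  refine add_mem ?_ (Submodule.mem_sup_right hr)
  have hκ3 : κ ∈ J ^ 3 := by
    simpa using Submodule.sub_mem _ hx (hd.mono (by omega) (show 3 ≤ 4 by omega) hr)
  obtain ⟨θ, h₁, hh₁, h₂, hh₂, j, hj, rfl⟩ := h.commSpan_le hd hκ
  rw [h.coeff_eq_zero hd hc hh₁ hh₂ hj hκ3, zero_smul, zero_add]
  have hsplit : ∀ h' ∈ J ^ 2, ∃ u v : k, ∀ z ∈ J,
      π (z * h' - h' * z) = u • π (z * (a * a) - (a * a) * z) + v • π (z * c - c * z) := by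
    intro h' hh'
    obtain ⟨s, hs, r', hr', he⟩ := Submodule.mem_sup.mp (h2 hh')
    obtain ⟨u, v, rfl⟩ := Submodule.mem_span_pair.mp hs
    have hd' : h' - (u • (a * a) + v • c) ∈ J ^ 3 := by rw [← he, add_sub_cancel_left]; exact hr'
    refine ⟨u, v, fun z hz => ?_⟩
    rw [map_sub, (hJ4 hd' hz).1, (hJ4 hd' hz).2, mul_add, add_mul, map_add, map_add, hsm, hsm,
      hsm', hsm', map_sub, map_sub]
    module
  obtain ⟨u₁, v₁, e1⟩ := hsplit h₁ hh₁
  obtain ⟨u₂, v₂, e2⟩ := hsplit h₂ hh₂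
  have ea : π (a * (a * a) - a * a * a) = 0 := by rw [mul_assoc, sub_self, map_zero]
  have eb : π (b * (a * a) - a * a * b) = (γ - 1) • π (c * a) - γ • π (a * c) := by
    rw [map_sub, ← mul_assoc, mul_assoc a a b, (hJ4 hba h.ha).2, (hJ4 hab h.ha).1, hsm, hsm']
  obtain ⟨t1, t1e⟩ := hac
  obtain ⟨t2, t2e⟩ := hca
  obtain ⟨t3, t3e⟩ := hbc
  obtain ⟨t4, t4e⟩ := hcb
  refine mem_sup_of_mkQ (v₁ * (t1 - t2) + (u₂ * ((γ - 1) * t2 - γ * t1) + v₂ * (t3 - t4))) ?_
  rw [map_add, map_add, (Submodule.Quotient.mk_eq_zero _).mpr (hd.mono (by omega) (by omega) hj)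
    |> (fun z => (show π j = 0 from z)), e1 a h.ha, e2 b h.hb, ea, eb, map_sub, map_sub, t1e, t2e,
    t3e, t4e]
  module

include hJJ h in
/-- The second layer spanned by the two mixed products with `b * b ≡ b * a`. -/
theorem shifted_line (h2 : J ^ 2 ≤ Submodule.span k {a * b, b * a} ⊔ J ^ 3) {α : k}
    (haa : a * a - α • (a * b - b * a) ∈ J ^ 3) (hbb : b * b - b * a ∈ J ^ 3) : IsLine J 3 := by
  have hJ4 : ∀ {x y : A}, x - y ∈ J ^ 3 → ∀ {z : A}, z ∈ J → π (z * x) = π (z * y) ∧ π (x * z) = π (y * z) :=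
    by
    intro x y hxy z hz
    constructor
    · rw [Submodule.mkQ_apply, Submodule.mkQ_apply, Submodule.Quotient.eq, ← mul_sub]
      exact mul_mem_pow_add (mem_pow_one hz) hxy
    · rw [Submodule.mkQ_apply, Submodule.mkQ_apply, Submodule.Quotient.eq, ← sub_mul]
      exact mul_mem_pow_add hxy (mem_pow_one hz)
  have abb : π (a * b * b) = π (a * b * a) := by
    rw [mul_assoc a b b, (hJ4 hbb h.ha).1, ← mul_assoc]
  have bba : π (b * b * a) = π (b * a * a) := (hJ4 hbb h.ha).2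
  have bbb : π (b * b * a) = π (b * a * b) := by
    rw [mul_assoc b b a, ← (hJ4 hbb h.hb).1, ← mul_assoc, (hJ4 hbb h.hb).2]
  have baa : π (b * a * a) = α • (π (b * a * b) - π (b * b * a)) := by
    rw [mul_assoc b a a, (hJ4 haa h.hb).1, mul_smul_comm, map_smul, mul_sub, map_sub, ← mul_assoc,
      ← mul_assoc]
  have aab : π (a * a * b) = α • (π (a * b * b) - π (b * a * b)) := by
    rw [(hJ4 haa h.hb).2, smul_mul_assoc, map_smul, sub_mul, map_sub]
  have hY : π (b * a * b) = 0 := by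
    rw [← bbb, bba, baa, bbb, sub_self, smul_zero]
  have hB : π (b * b * a) = 0 := by rw [bbb, hY]
  refine ⟨a * b * a, next_le ![a, b] h.range.1 h.range.2 h2 (le_sup_right) ?_⟩
  intro i s hs
  fin_cases i <;> rcases hs with rfl | hs <;>
    first
    | (refine mem_sup_of_mkQ α ?_
       show π (a * (a * b)) = _
       rw [← mul_assoc, aab, abb, hY, sub_zero])
    | skip
  · rcases hs with rfl
    exact mem_sup_of_mkQ 1 (by show π (a * (b * a)) = _; rw [← mul_assoc, one_smul])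
  · exact mem_sup_of_mkQ 0 (by show π (b * (a * b)) = _; rw [← mul_assoc, hY, zero_smul])
  · rcases hs with rfl
    exact mem_sup_of_mkQ 0 (by show π (b * (b * a)) = _; rw [← mul_assoc, hB, zero_smul])

include hJJ h in
/-- The monomial case. -/
theorem monomial_line (hd : Deep J τ n) (hc : a * b - b * a ∉ J ^ 3)
    (h2 : J ^ 2 ≤ Submodule.span k {a * b, b * a} ⊔ J ^ 3) (haa : a * a ∈ J ^ 3)
    (hbb : b * b ∈ J ^ 3) (h4 : J ^ 4 ≤ commSpan J ⊔ J ^ 5) : IsLine J 3 ∨ IsLine J 4 := by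
  set X := a * b * a with hX
  set Y := b * a * b with hY
  have z4 : ∀ {x z : A}, x ∈ J ^ 3 → z ∈ J → z * x ∈ J ^ 4 ∧ x * z ∈ J ^ 4 := fun hx hz =>
    ⟨mul_mem_pow_add (mem_pow_one hz) hx, mul_mem_pow_add hx (mem_pow_one hz)⟩
  have hJ3 : J ^ 3 ≤ Submodule.span k {X, Y} ⊔ J ^ 4 := by
    refine next_le ![a, b] h.range.1 h.range.2 h2 le_sup_right fun i s hs => ?_
    fin_cases i <;> rcases hs with rfl | hs
    · exact Submodule.mem_sup_right (by
        show a * (a * b) ∈ _
        rw [← mul_assoc]; exact (z4 haa h.hb).2)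
    · rcases hs with rfl
      exact Submodule.mem_sup_left (Submodule.subset_span (by simp [hX, mul_assoc]))
    · exact Submodule.mem_sup_left (Submodule.subset_span (by simp [hY, mul_assoc]))
    · rcases hs with rfl
      exact Submodule.mem_sup_right (by
        show b * (b * a) ∈ _
        rw [← mul_assoc]; exact (z4 hbb h.ha).2)
  by_cases hdep : ∃ s t : k, (s ≠ 0 ∨ t ≠ 0) ∧ s • X + t • Y ∈ J ^ 4
  · left
    obtain ⟨s, t, hst, hmem⟩ := hdep
    rcases eq_or_ne t 0 with rfl | ht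
    · refine ⟨Y, hJ3.trans (sup_le (Submodule.span_le.mpr ?_) le_sup_right)⟩
      rintro _ (rfl | rfl)
      · refine Submodule.mem_sup_right ((Submodule.smul_mem_iff _ (hst.resolve_right (by simp))).mp ?_)
        simpa using hmem
      · exact Submodule.mem_sup_left (Submodule.mem_span_singleton_self _)
    · refine ⟨X, hJ3.trans (sup_le (Submodule.span_le.mpr ?_) le_sup_right)⟩
      rintro _ (rfl | rfl)
      · exact Submodule.mem_sup_left (Submodule.mem_span_singleton_self _)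
      · have : Y = (-(s / t)) • X + t⁻¹ • (s • X + t • Y) := by
          rw [smul_add, smul_smul, smul_smul, inv_mul_cancel₀ ht, one_smul, ← add_assoc, ← add_smul,
            div_eq_inv_mul, neg_add_cancel, zero_smul, zero_add]
        rw [this]
        exact Submodule.add_mem_sup (Submodule.smul_mem _ _ (Submodule.mem_span_singleton_self _))
          (Submodule.smul_mem _ _ hmem)
  push Not at hdep
  right
  set U := X * b - Y * a with hU
  have hW : ∀ w ∈ J ^ 3, (a * w - w * a ∈ Submodule.span k {U} ⊔ J ^ 5) ∧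
      (b * w - w * b ∈ Submodule.span k {U} ⊔ J ^ 5) := by
    intro w hw
    obtain ⟨v, hv, r, hr, rfl⟩ := Submodule.mem_sup.mp (hJ3 hw)
    obtain ⟨l, m, rfl⟩ := Submodule.mem_span_pair.mp hv
    have hr5 : ∀ {z : A}, z ∈ J → z * r - r * z ∈ J ^ 5 := fun hz =>
      Submodule.sub_mem _ (mul_mem_pow_add (mem_pow_one hz) hr) (mul_mem_pow_add hr (mem_pow_one hz))
    have haX : a * X - X * a ∈ J ^ 5 := by
      rw [show a * X - X * a = a * a * (b * a) - a * b * (a * a) by simp only [hX, mul_assoc]]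
      exact Submodule.sub_mem _ (mul_mem_pow_add haa (mul_mem_two h.hb h.ha))
        (mul_mem_pow_add (mul_mem_two h.ha h.hb) haa)
    have hbY : b * Y - Y * b ∈ J ^ 5 := by
      rw [show b * Y - Y * b = b * b * (a * b) - b * a * (b * b) by simp only [hY, mul_assoc]]
      exact Submodule.sub_mem _ (mul_mem_pow_add hbb (mul_mem_two h.ha h.hb))
        (mul_mem_pow_add (mul_mem_two h.hb h.ha) hbb)
    constructor
    · rw [show a * (l • X + m • Y + r) - (l • X + m • Y + r) * a =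
        m • U + (l • (a * X - X * a) + (a * r - r * a)) by
          simp only [hU, hX, hY, mul_add, add_mul, mul_smul_comm, smul_mul_assoc, smul_sub, mul_assoc]
          abel]
      exact Submodule.add_mem_sup (Submodule.smul_mem _ _ (Submodule.mem_span_singleton_self _))
        (add_mem (Submodule.smul_mem _ _ haX) (hr5 h.ha))
    · rw [show b * (l • X + m • Y + r) - (l • X + m • Y + r) * b =
        (-l) • U + (m • (b * Y - Y * b) + (b * r - r * b)) by
          simp only [hU, hX, hY, mul_add, add_mul, mul_smul_comm, smul_mul_assoc, smul_sub, mul_assoc,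
            neg_smul]
          abel]
      exact Submodule.add_mem_sup (Submodule.smul_mem _ _ (Submodule.mem_span_singleton_self _))
        (add_mem (Submodule.smul_mem _ _ hbY) (hr5 h.hb))
  refine ⟨U, fun x hx => ?_⟩
  obtain ⟨κ, hκ, r, hr, rfl⟩ := Submodule.mem_sup.mp (h4 hx)
  refine add_mem ?_ (Submodule.mem_sup_right hr)
  have hκ4 : κ ∈ J ^ 4 := by
    simpa using Submodule.sub_mem _ hx (hd.mono (by omega) (show 4 ≤ 5 by omega) hr)
  obtain ⟨θ, h₁, hh₁, h₂, hh₂, j, hj, rfl⟩ := h.commSpan_le hd hκ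
  obtain rfl : θ = 0 := h.coeff_eq_zero hd hc hh₁ hh₂ hj (hd.mono (by omega) (show 3 ≤ 4 by omega) hκ4)
  rw [zero_smul, zero_add] at hκ4 ⊢
  obtain ⟨s₁, hs₁, r₁, hr₁, rfl⟩ := Submodule.mem_sup.mp (h2 hh₁)
  obtain ⟨u, v, rfl⟩ := Submodule.mem_span_pair.mp hs₁
  obtain ⟨s₂, hs₂, r₂, hr₂, rfl⟩ := Submodule.mem_sup.mp (h2 hh₂)
  obtain ⟨u', v', rfl⟩ := Submodule.mem_span_pair.mp hs₂
  have h34 : ∀ {z w : A}, z ∈ J → w ∈ J ^ 3 → z * w - w * z ∈ J ^ 4 := fun hz hw =>
    Submodule.sub_mem _ (z4 hw hz).1 (z4 hw hz).2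
  have huv := hdep (v - u) (u' - v')
  have hrel : (v - u) • X + (u' - v') • Y ∈ J ^ 4 := by
    have hbig := Submodule.sub_mem _ hκ4 (add_mem (add_mem
      (add_mem (h34 h.ha hr₁) (h34 h.hb hr₂)) (hd.mono (by omega) (show 4 ≤ 5 by omega) hj))
      (add_mem (add_mem (Submodule.smul_mem _ u (z4 haa h.hb).2) (Submodule.smul_mem _ (-v) (z4 haa h.hb).1))
        (add_mem (Submodule.smul_mem _ (-u') (z4 hbb h.ha).1) (Submodule.smul_mem _ v' (z4 hbb h.ha).2))))
    convert hbig using 1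
    simp only [hX, hY, mul_add, add_mul, mul_smul_comm, smul_mul_assoc, smul_sub, sub_smul, neg_smul,
      mul_assoc]
    abel
  obtain rfl : v = u := by
    by_contra hne
    exact huv (Or.inl (sub_ne_zero.mpr hne)) hrel
  obtain rfl : u' = v' := by
    by_contra hne
    exact huv (Or.inr (sub_ne_zero.mpr hne)) hrel
  rw [show a * (v • (a * b) + v • (b * a) + r₁) - (v • (a * b) + v • (b * a) + r₁) * a +
      (b * (u' • (a * b) + u' • (b * a) + r₂) - (u' • (a * b) + u' • (b * a) + r₂) * b) + j =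
      (a * r₁ - r₁ * a) + (b * r₂ - r₂ * b) + ((-v) • (b * (a * a) - a * a * b) +
        (-u') • (a * (b * b) - b * b * a)) + j by
    simp only [mul_add, add_mul, mul_smul_comm, smul_mul_assoc, smul_sub, neg_smul, mul_assoc]
    abel]
  exact add_mem (add_mem (add_mem (hW _ hr₁).1 (hW _ hr₂).2)
    (add_mem (Submodule.smul_mem _ _ (hW _ haa).2) (Submodule.smul_mem _ _ (hW _ hbb).1)))
    (Submodule.mem_sup_right hj)

end Products

theorem exists_root [IsAlgClosed k] (p q r : k) (hr : r ≠ 0) : ∃ s : k, p + q * s + r * s ^ 2 = 0 := by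
  open Polynomial in
  have hdeg : (C r * X ^ 2 + C q * X + C p).degree = 2 := degree_quadratic hr
  obtain ⟨s, hs⟩ := IsAlgClosed.exists_root (Polynomial.C r * Polynomial.X ^ 2 +
    Polynomial.C q * Polynomial.X + Polynomial.C p) (by rw [hdeg]; norm_num)
  refine ⟨s, ?_⟩
  simp [Polynomial.IsRoot] at hs
  linear_combination hs

/-- A shift of the second generator removing one coefficient of its square. -/
theorem exists_shift [IsAlgClosed k] {a b : A} (h : GenTwo J a b)
    (h2 : J ^ 2 ≤ Submodule.span k {a * b, b * a} ⊔ J ^ 3) {α σ ρ : k}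
    (haa : a * a - α • (a * b - b * a) ∈ J ^ 3)
    (hbb : b * b - (σ • (a * b) + ρ • (b * a)) ∈ J ^ 3) :
    ∃ (b' : A) (ρ' : k), GenTwo J a b' ∧ a * b' - b' * a = a * b - b * a ∧
      J ^ 2 ≤ Submodule.span k {a * b', b' * a} ⊔ J ^ 3 ∧ b' * b' - ρ' • (b' * a) ∈ J ^ 3 := by
  obtain ⟨t, ht⟩ : ∃ t : k, σ + (1 - (σ + ρ) * α) * t + (-α) * t ^ 2 = 0 := by
    by_cases hα : α = 0
    · exact ⟨-σ, by subst hα; ring⟩
    · exact exists_root _ _ _ (neg_ne_zero.mpr hα)
  set b' := b + t • a with hb'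
  have hc' : a * b' - b' * a = a * b - b * a := by
    simp only [hb', mul_add, add_mul, mul_smul_comm, smul_mul_assoc]; abel
  have hsub : J ^ 2 ≤ Submodule.span k {a * b', b' * a} ⊔ J ^ 3 := by
    refine h2.trans (sup_le (Submodule.span_le.mpr ?_) le_sup_right)
    set W := Submodule.span k {a * b', b' * a} ⊔ J ^ 3
    have h1 : a * b' ∈ W := Submodule.mem_sup_left (Submodule.subset_span (by simp))
    have h1' : b' * a ∈ W := Submodule.mem_sup_left (Submodule.subset_span (by simp))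
    have hta : t • (a * a) ∈ W := by
      rw [← sub_add_cancel (a * a) (α • (a * b - b * a)), smul_add, ← hc']
      exact add_mem (Submodule.smul_mem _ _ (Submodule.mem_sup_right (by rw [hc']; exact haa)))
        (Submodule.smul_mem _ _ (Submodule.smul_mem _ _ (Submodule.sub_mem _ h1 h1')))
    refine Set.insert_subset ?_ (Set.singleton_subset_iff.mpr ?_)
    · rw [SetLike.mem_coe, show a * b = a * b' - t • (a * a) by simp [hb', mul_add]]
      exact Submodule.sub_mem _ h1 hta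
    · rw [SetLike.mem_coe, show b * a = b' * a - t • (a * a) by simp [hb', add_mul]]
      exact Submodule.sub_mem _ h1' hta
  refine ⟨b', σ + ρ + 2 * t, h.shift t, hc', hsub, ?_⟩
  have e : b' * b' - (σ + ρ + 2 * t) • (b' * a) =
      (b * b - (σ • (a * b) + ρ • (b * a))) +
        ((t ^ 2 - (σ + ρ + 2 * t) * t) • (a * a - α • (a * b - b * a)) +
          (σ + (1 - (σ + ρ) * α) * t + (-α) * t ^ 2) • (a * b - b * a)) := by
    simp only [hb', mul_add, add_mul, mul_smul_comm, smul_mul_assoc]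
    module
  rw [e, ht, zero_smul, add_zero]
  exact add_mem hbb (Submodule.smul_mem _ _ haa)

/-- The second layer spanned by the mixed products, `a * a` a commutator. -/
theorem mixed_line [IsAlgClosed k] (hd : Deep J τ n) {a b : A} (h : GenTwo J a b)
    (h4 : J ^ 4 ≤ commSpan J ⊔ J ^ 5)
    (hc : a * b - b * a ∉ J ^ 3) (h2 : J ^ 2 ≤ Submodule.span k {a * b, b * a} ⊔ J ^ 3) {α σ ρ : k}
    (haa : a * a - α • (a * b - b * a) ∈ J ^ 3)
    (hbb : b * b - (σ • (a * b) + ρ • (b * a)) ∈ J ^ 3) : IsLine J 3 ∨ IsLine J 4 := by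
  have hfinish : ∀ {a b : A}, GenTwo J a b → J ^ 2 ≤ Submodule.span k {a * b, b * a} ⊔ J ^ 3 →
      ∀ {α ρ : k}, a * a - α • (a * b - b * a) ∈ J ^ 3 → b * b - ρ • (b * a) ∈ J ^ 3 → ρ ≠ 0 →
      IsLine J 3 := by
    intro a b h h2 α ρ haa hbb hρ
    have hs : Submodule.span k {a * b, b * a} ≤
        Submodule.span k {a * (ρ⁻¹ • b), (ρ⁻¹ • b) * a} := by
      refine Submodule.span_le.mpr (Set.insert_subset ?_ (Set.singleton_subset_iff.mpr ?_))
      · rw [SetLike.mem_coe, show a * b = ρ • (a * (ρ⁻¹ • b)) by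
          rw [mul_smul_comm, smul_smul, mul_inv_cancel₀ hρ, one_smul]]
        exact Submodule.smul_mem _ _ (Submodule.subset_span (by simp))
      · rw [SetLike.mem_coe, show b * a = ρ • ((ρ⁻¹ • b) * a) by
          rw [smul_mul_assoc, smul_smul, mul_inv_cancel₀ hρ, one_smul]]
        exact Submodule.smul_mem _ _ (Submodule.subset_span (by simp))
    refine shifted_line hd.hJJ (h.scale (inv_ne_zero hρ)) (h2.trans (sup_le_sup_right hs _))
      (α := α * ρ) ?_ ?_
    · convert haa using 2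
      simp only [mul_smul_comm, smul_mul_assoc, ← smul_sub, smul_smul]
      rw [mul_assoc, mul_inv_cancel₀ hρ, mul_one]
    · have := Submodule.smul_mem _ (ρ⁻¹ * ρ⁻¹) hbb
      convert this using 1
      simp only [mul_smul_comm, smul_mul_assoc, smul_smul, smul_sub]
      rw [mul_assoc ρ⁻¹ ρ⁻¹ ρ, inv_mul_cancel₀ hρ, mul_one]
  obtain ⟨b₁, ρ₁, h₁, hc₁, h2₁, hbb₁⟩ := exists_shift h h2 haa hbb
  rw [← hc₁] at haa hc
  by_cases hρ₁ : ρ₁ = 0
  swap
  · exact Or.inl (hfinish h₁ h2₁ haa hbb₁ hρ₁)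
  rw [hρ₁, zero_smul, sub_zero] at hbb₁
  have h2' : J ^ 2 ≤ Submodule.span k {b₁ * a, a * b₁} ⊔ J ^ 3 := by rw [Set.pair_comm]; exact h2₁
  obtain ⟨a₂, ρ₂, h₂, hc₂, h2₂, hbb₂⟩ := exists_shift h₁.swap h2' (α := 0) (σ := -α) (ρ := α)
    (by rwa [zero_smul, sub_zero]) (by
      convert haa using 2
      module)
  by_cases hρ₂ : ρ₂ = 0
  swap
  · exact Or.inl (hfinish h₂ h2₂ (α := 0) (by rwa [zero_smul, sub_zero]) hbb₂ hρ₂)
  rw [hρ₂, zero_smul, sub_zero] at hbb₂
  refine monomial_line hd.hJJ h₂ hd (fun h3 => hc ?_) h2₂ hbb₁ hbb₂ h4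
  rw [hc₂] at h3
  rw [← neg_sub]
  exact neg_mem h3

/-- No more than four layers with two generators. -/
theorem two_gen_false [IsAlgClosed k] (hd : Deep J τ n) {a b : A} (h : GenTwo J a b)
    (hdrop : ¬ J ^ 2 ≤ commSpan J ⊔ J ^ 3 →
      (∀ m, 3 ≤ m → m < n → J ^ m ≤ commSpan J ⊔ J ^ (m + 1)) ∧
        ∃ q, J ^ 2 ≤ commSpan J ⊔ J ^ 3 ⊔ Submodule.span k {q}) : False := by
  have hn := hd.five
  have hK : commSpan J ≤ Submodule.span k {a * b - b * a} ⊔ J ^ 3 := fun κ hκ => by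
    obtain ⟨θ, h₁, hh₁, h₂, hh₂, j, hj, rfl⟩ := h.commSpan_le hd hκ
    exact Submodule.add_mem_sup (Submodule.smul_mem _ _ (Submodule.mem_span_singleton_self _))
      (add_mem (add_mem (hd.br_mem h.ha hh₁) (hd.br_mem h.hb hh₂)) (hd.mono (by omega) (by omega) hj))
  by_cases hJ2 : J ^ 2 ≤ commSpan J ⊔ J ^ 3
  · have hline : IsLine J 2 := ⟨a * b - b * a, hJ2.trans (sup_le hK le_sup_right)⟩
    exact not_line_of_commutators hd hJ2 (hline.mono hd.hJJ le_rfl (by omega))
  obtain ⟨hlayers, q, hq⟩ := hdrop hJ2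
  have h3 := hlayers 3 le_rfl (by omega)
  have h4 := hlayers 4 (by omega) (by omega)
  set c := a * b - b * a with hcdef
  have hq' : J ^ 2 ≤ Submodule.span k {c} ⊔ J ^ 3 ⊔ Submodule.span k {q} :=
    hq.trans (sup_le_sup_right (sup_le hK le_sup_right) _)
  have hline2 : c ∈ J ^ 3 → IsLine J 2 := fun hc => ⟨q, hq'.trans (sup_le (sup_le
    (((Submodule.span_singleton_le_iff_mem _ _).mpr hc).trans le_sup_right) le_sup_right)
    le_sup_left)⟩
  have hno : ∀ m, 2 ≤ m → m ≤ 4 → ¬ IsLine J m := fun m => h.not_line hd h3 hline2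
  have hc : c ∉ J ^ 3 := fun hc => hno 2 le_rfl (by omega) (hline2 hc)
  have hqout : q ∉ Submodule.span k {c} ⊔ J ^ 3 := fun hmem => hno 2 le_rfl (by omega)
    ⟨c, hq'.trans (sup_le le_rfl ((Submodule.span_singleton_le_iff_mem _ _).mpr hmem))⟩
  obtain ⟨χ, hχq, hχ⟩ := Submodule.exists_le_ker_of_notMem hqout
  have hker : ∀ x ∈ J ^ 2, χ x = 0 → x ∈ Submodule.span k {c} ⊔ J ^ 3 := by
    intro x hx hx0
    obtain ⟨u, hu, v, hv, rfl⟩ := Submodule.mem_sup.mp (hq' hx)
    obtain ⟨t, rfl⟩ := Submodule.mem_span_singleton.mp hv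
    rw [map_add, LinearMap.mem_ker.mp (hχ hu), zero_add, map_smul, smul_eq_mul] at hx0
    rw [(mul_eq_zero.mp hx0).resolve_right hχq, zero_smul, add_zero]
    exact hu
  have hχc : χ c = 0 := hχ (Submodule.mem_sup_left (Submodule.mem_span_singleton_self c))
  have hsymm : χ (a * b) = χ (b * a) := by rwa [hcdef, map_sub, sub_eq_zero] at hχc
  -- an isotropic generator
  obtain ⟨a', b', h', hc', haa⟩ : ∃ a' b', GenTwo J a' b' ∧
      Submodule.span k {a' * b' - b' * a'} = Submodule.span k {c} ∧ χ (a' * a') = 0 := by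
    by_cases hb0 : χ (b * b) = 0
    · exact ⟨b, a, h.swap, by
        rw [hcdef, ← neg_sub, ← Set.neg_singleton, Submodule.span_neg], hb0⟩
    obtain ⟨s, hs⟩ := exists_root (χ (a * a)) (2 * χ (a * b)) (χ (b * b)) hb0
    refine ⟨a + s • b, b, (h.swap.shift s).swap, ?_, ?_⟩
    · congr 1
      simp only [hcdef, mul_add, add_mul, mul_smul_comm, smul_mul_assoc, Set.singleton_eq_singleton_iff]
      abel
    · simp only [mul_add, add_mul, mul_smul_comm, smul_mul_assoc, smul_smul, map_add, map_smul,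
        smul_eq_mul, ← hsymm]
      linear_combination hs
  rw [← hc'] at hker hq' hqout
  have hc2 : a' * b' - b' * a' ∈ J ^ 2 :=
    Submodule.sub_mem _ (mul_mem_two h'.ha h'.hb) (mul_mem_two h'.hb h'.ha)
  have hcout : a' * b' - b' * a' ∉ J ^ 3 := fun hmem => hc (by
    have : c ∈ Submodule.span k {a' * b' - b' * a'} := hc' ▸ Submodule.mem_span_singleton_self c
    obtain ⟨t, ht⟩ := Submodule.mem_span_singleton.mp this
    rw [← ht]
    exact Submodule.smul_mem _ _ hmem)
  obtain ⟨u, hu, r, hr, he⟩ := Submodule.mem_sup.mp (hker _ (mul_mem_two h'.ha h'.ha) haa)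
  obtain ⟨α, rfl⟩ := Submodule.mem_span_singleton.mp hu
  have haa' : a' * a' - α • (a' * b' - b' * a') ∈ J ^ 3 := by
    rw [← he, add_sub_cancel_left]; exact hr
  have hχc' : χ (a' * b') = χ (b' * a') := by
    rw [← sub_eq_zero, ← map_sub]
    exact hχ (Submodule.mem_sup_left (hc' ▸ Submodule.mem_span_singleton_self _))
  by_cases hab : χ (a' * b') = 0
  · -- one square spans
    obtain ⟨u₁, hu₁, r₁, hr₁, he₁⟩ := Submodule.mem_sup.mp (hker _ (mul_mem_two h'.hb h'.ha) (hχc' ▸ hab))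
    obtain ⟨γ, rfl⟩ := Submodule.mem_span_singleton.mp hu₁
    have hneg : b' * a' - a' * b' = -(a' * b' - b' * a') := (neg_sub _ _).symm
    refine hno 3 (by omega) (by omega) (rank_one_line hd.hJJ h'.swap hd ?_ h3 ?_
      (γ := -γ) (δ := -α) ?_ ?_)
    · rw [hneg]; exact fun h => hcout (neg_mem_iff.mp h)
    · intro x hx
      obtain ⟨v, hv, w, hw, rfl⟩ := Submodule.mem_sup.mp (hq' hx)
      obtain ⟨t, rfl⟩ := Submodule.mem_span_singleton.mp hw
      have hbb0 : χ (b' * b') ≠ 0 := by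
        intro h0
        refine hJ2 ?_
        have hall : J ^ 2 ≤ Submodule.span k {a' * b' - b' * a'} ⊔ J ^ 3 := by
          refine next_le ![a', b'] h'.range.1 h'.range.2 (S := {a', b'}) (m := 1)
            (by rw [pow_one]; exact h'.gen) le_sup_right ?_
          intro i z hz
          refine hker _ ?_ ?_
          · fin_cases i <;> rcases hz with rfl | hz <;>
              first | (rcases hz with rfl; exact mul_mem_two (by first | exact h'.ha | exact h'.hb) h'.hb)
                    | exact mul_mem_two (by first | exact h'.ha | exact h'.hb) h'.ha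
          · fin_cases i <;> rcases hz with rfl | hz <;>
              first | exact haa | exact hab | exact hχc' ▸ hab | (rcases hz with rfl; first | exact hab | exact h0)
        refine hall.trans (sup_le_sup_right ((Submodule.span_singleton_le_iff_mem _ _).mpr ?_) _)
        exact Submodule.subset_span ⟨a', h'.ha, b', h'.hb, rfl⟩
      have hd' := hker _ (Submodule.sub_mem _ hx (Submodule.smul_mem _ (χ (v + t • q) / χ (b' * b'))
        (mul_mem_two h'.hb h'.hb))) (by
          rw [map_sub (f := χ) (v + t • q), map_smul, smul_eq_mul, div_mul_cancel₀ _ hbb0, sub_self])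
      rw [hneg]
      rw [← sub_add_cancel (v + t • q) ((χ (v + t • q) / χ (b' * b')) • (b' * b'))]
      refine add_mem (SetLike.le_def.mp (sup_le_sup_right ?_ _) hd') (Submodule.mem_sup_left
        (Submodule.smul_mem _ _ (Submodule.subset_span (by simp))))
      rw [Submodule.span_singleton_le_iff_mem]
      exact neg_mem_iff.mp (Submodule.subset_span (by simp))
    · rw [hneg, smul_neg, neg_smul, neg_neg, ← eq_sub_of_add_eq' he₁]; exact hr₁
    · rw [hneg, smul_neg, neg_smul, neg_neg]; exact haa'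
  · -- the mixed products span
    set W := Submodule.span k {a' * b', b' * a'} ⊔ J ^ 3 with hW
    have hcW : Submodule.span k {a' * b' - b' * a'} ⊔ J ^ 3 ≤ W :=
      sup_le ((Submodule.span_singleton_le_iff_mem _ _).mpr (Submodule.sub_mem _
        (Submodule.mem_sup_left (Submodule.subset_span (by simp)))
        (Submodule.mem_sup_left (Submodule.subset_span (by simp))))) le_sup_right
    have hJW : J ^ 2 ≤ W := fun x hx => by
      have hd' := hker _ (Submodule.sub_mem _ hx (Submodule.smul_mem _ (χ x / χ (a' * b'))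
        (mul_mem_two h'.ha h'.hb))) (by
          rw [map_sub, map_smul, smul_eq_mul, div_mul_cancel₀ _ hab, sub_self])
      rw [← sub_add_cancel x ((χ x / χ (a' * b')) • (a' * b'))]
      exact add_mem (hcW hd') (Submodule.mem_sup_left
        (Submodule.smul_mem _ _ (Submodule.subset_span (by simp))))
    obtain ⟨v, hv, w, hw, he₂⟩ := Submodule.mem_sup.mp (hJW (mul_mem_two h'.hb h'.hb))
    obtain ⟨σ, ρ, rfl⟩ := Submodule.mem_span_pair.mp hv
    have hbb' : b' * b' - (σ • (a' * b') + ρ • (b' * a')) ∈ J ^ 3 := by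
      rw [← he₂, add_sub_cancel_left]; exact hw
    rcases mixed_line hd h' h4 hcout hJW haa' hbb' with hl | hl
    · exact hno 3 (by omega) (by omega) hl
    · exact hno 4 (by omega) le_rfl hl

end Cfsg.Agent.BlockFive
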