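import Cfsg.Agent.Lib.BlockFive.Tensor
import Cfsg.Agent.Lib.BlockFive.TwoGen

/-!
# Deep local symmetric algebras with three generators

`three_gen_false`: with three generators, all layers between the first and the last consisting of
commutators, no layer above the fourth survives.
-/

set_option autoImplicit false
set_option maxSynthPendingDepth 3

namespace Cfsg.Agent.BlockFive

open Module Cfsg.Agent.BlockFour

variable {k : Type*} [Field k] {A : Type*} [Ring A] [Algebra k A]
variable {J : Submodule k A} {τ : Dual k A} {n : ℕ}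

/-- A layer on a family on which all functionals are proportional is a line. -/
theorem isLine_of_proportional {ι : Type*} (P : ι → A) {m : ℕ}
    (hP : J ^ m ≤ Submodule.span k (Set.range P) ⊔ J ^ (m + 1)) (v : ι → k)
    (h : ∀ f : Dual k A, J ^ (m + 1) ≤ LinearMap.ker f → ∃ r : k, ∀ i, f (P i) = r * v i) :
    IsLine J m := by
  by_cases hall : ∀ i, P i ∈ J ^ (m + 1)
  · exact ⟨0, hP.trans (sup_le (le_sup_of_le_right
      (Submodule.span_le.mpr (Set.range_subset_iff.mpr hall))) le_sup_right)⟩
  push Not at hall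
  obtain ⟨i₀, hi₀⟩ := hall
  obtain ⟨f₀, hf₀, hk₀⟩ := Submodule.exists_le_ker_of_notMem hi₀
  refine ⟨P i₀, hP.trans (sup_le (Submodule.span_le.mpr ?_) le_sup_right)⟩
  rintro _ ⟨i, rfl⟩
  by_contra hi
  obtain ⟨f, hf, hk⟩ := Submodule.exists_le_ker_of_notMem (SetLike.mem_coe.not.mp hi)
  obtain ⟨r, hr⟩ := h f (le_sup_right.trans hk)
  obtain ⟨r₀, hr₀⟩ := h f₀ hk₀
  have h0 : f (P i₀) = 0 := hk (Submodule.mem_sup_left (Submodule.mem_span_singleton_self _))
  have hv : v i₀ ≠ 0 := fun hv => hf₀ (by rw [hr₀, hv, mul_zero])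
  rw [hr i₀, mul_eq_zero, or_iff_left hv] at h0
  exact hf (by rw [hr, h0, zero_mul])

section Forms

variable (L : (Fin 3 → k) →ₗ[k] A)

/-- The bilinear form of a functional. -/
def formTwo : Dual k A →ₗ[k] Bil k (Fin 3 → k) where
  toFun f := LinearMap.compr₂ ((LinearMap.mul k A).compl₁₂ L L) f
  map_add' f g := by ext x y; simp
  map_smul' c f := by ext x y; simp

/-- The trilinear form of a functional. -/
def formThree : Dual k A →ₗ[k] Tri k (Fin 3 → k) where
  toFun f :=
    { toFun := fun x => formTwo L (f.comp (LinearMap.mulLeft k (L x)))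
      map_add' := fun x y => by
        refine LinearMap.ext fun a => LinearMap.ext fun b => ?_
        simp [formTwo, add_mul]
      map_smul' := fun c x => by
        refine LinearMap.ext fun a => LinearMap.ext fun b => ?_
        simp [formTwo] }
  map_add' f g := by
    refine LinearMap.ext fun x => LinearMap.ext fun a => LinearMap.ext fun b => ?_
    simp [formTwo]
  map_smul' c f := by
    refine LinearMap.ext fun x => LinearMap.ext fun a => LinearMap.ext fun b => ?_
    simp [formTwo]

/-- The quadrilinear form of a functional. -/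
def formFour (f : Dual k A) : (Fin 3 → k) →ₗ[k] Tri k (Fin 3 → k) where
  toFun x := formThree L (f.comp (LinearMap.mulLeft k (L x)))
  map_add' x y := by
    refine LinearMap.ext fun a => LinearMap.ext fun b => LinearMap.ext fun c => ?_
    simp [formThree, formTwo, add_mul]
  map_smul' c x := by
    refine LinearMap.ext fun a => LinearMap.ext fun b => LinearMap.ext fun d => ?_
    simp [formThree, formTwo]

theorem formTwo_apply (f : Dual k A) (x y : Fin 3 → k) : formTwo L f x y = f (L x * L y) := rfl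

theorem formThree_apply (f : Dual k A) (x y z : Fin 3 → k) :
    formThree L f x y z = f (L x * (L y * L z)) := rfl

theorem formFour_apply (f : Dual k A) (x y z w : Fin 3 → k) :
    formFour L f x y z w = f (L x * (L y * (L z * L w))) := rfl

end Forms

set_option maxHeartbeats 1000000 in
/-- No more than four layers with three generators. -/
theorem three_gen_false [IsAlgClosed k] (hd : Deep J τ n) (e : Fin 3 → A) (he : ∀ i, e i ∈ J)
    (hgen : J ≤ Submodule.span k (Set.range e) ⊔ J ^ 2)
    (hlayers : ∀ m, 2 ≤ m → m < n → J ^ m ≤ commSpan J ⊔ J ^ (m + 1)) : False := by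
  have hn := hd.five
  have hno : ∀ m, 2 ≤ m → m ≤ 4 → ¬ IsLine J m := fun m hm hm' hl =>
    not_line_of_commutators hd (hlayers 2 le_rfl (by omega)) (hl.mono hd.hJJ hm (by omega))
  let L : (Fin 3 → k) →ₗ[k] A := Fintype.linearCombination k e
  have hLe : ∀ i, L (Pi.single i 1) = e i := fun i => by simp [L]
  have hLJ : ∀ x, L x ∈ J := fun x => by
    rw [show L x = ∑ i, x i • e i from Fintype.linearCombination_apply k e x]
    exact J.sum_mem fun i _ => J.smul_mem _ (he i)
  -- the products of the generators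
  have hP1 : J ^ 1 ≤ Submodule.span k (Set.range e) ⊔ J ^ 2 := by rwa [pow_one]
  have hP2 : J ^ 2 ≤ Submodule.span k (Set.range fun p : Fin 3 × Fin 3 => e p.1 * e p.2) ⊔ J ^ 3 :=
    next_le e he hgen hP1 le_sup_right fun i s hs => by
      obtain ⟨j, rfl⟩ := hs
      exact Submodule.mem_sup_left (Submodule.subset_span ⟨(i, j), rfl⟩)
  have hP3 : J ^ 3 ≤ Submodule.span k
      (Set.range fun p : Fin 3 × Fin 3 × Fin 3 => e p.1 * (e p.2.1 * e p.2.2)) ⊔ J ^ 4 :=
    next_le e he hgen hP2 le_sup_right fun i s hs => by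
      obtain ⟨⟨j, l⟩, rfl⟩ := hs
      exact Submodule.mem_sup_left (Submodule.subset_span ⟨(i, j, l), rfl⟩)
  have hP4 : J ^ 4 ≤ Submodule.span k (Set.range fun p : Fin 3 × Fin 3 × Fin 3 × Fin 3 =>
      e p.1 * (e p.2.1 * (e p.2.2.1 * e p.2.2.2))) ⊔ J ^ 5 :=
    next_le e he hgen hP3 le_sup_right fun i s hs => by
      obtain ⟨⟨j, l, m⟩, rfl⟩ := hs
      exact Submodule.mem_sup_left (Submodule.subset_span ⟨(i, j, l, m), rfl⟩)
  set Q : Submodule k (Bil k (Fin 3 → k)) := (J ^ 3).dualAnnihilator.map (formTwo L) with hQdef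
  set S : Submodule k (Tri k (Fin 3 → k)) := (J ^ 4).dualAnnihilator.map (formThree L) with hSdef
  have hmulL : ∀ {f : Dual k A} {m : ℕ} (x : Fin 3 → k), f ∈ (J ^ (m + 1)).dualAnnihilator →
      f.comp (LinearMap.mulLeft k (L x)) ∈ (J ^ m).dualAnnihilator := fun {f m} x hf => by
    rw [Submodule.mem_dualAnnihilator] at hf ⊢
    exact fun w hw => hf _ (by rw [add_comm]; exact mul_mem_pow_add (mem_pow_one (hLJ x)) hw)
  have hmulR : ∀ {f : Dual k A} {m : ℕ} (x : Fin 3 → k), f ∈ (J ^ (m + 1)).dualAnnihilator →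
      f.comp (LinearMap.mulRight k (L x)) ∈ (J ^ m).dualAnnihilator := fun {f m} x hf => by
    rw [Submodule.mem_dualAnnihilator] at hf ⊢
    exact fun w hw => hf _ (mul_mem_pow_add hw (mem_pow_one (hLJ x)))
  have hS : ∀ T ∈ S, Slices Q T := by
    rintro _ ⟨f, hf, rfl⟩
    refine ⟨fun x => ⟨_, hmulL x hf, rfl⟩, fun z => ⟨_, ⟨_, hmulR z hf, rfl⟩, fun x y => ?_⟩⟩
    rw [formThree_apply, formTwo_apply, LinearMap.comp_apply, LinearMap.mulRight_apply, mul_assoc]
  have hU : ∀ f ∈ (J ^ 5).dualAnnihilator, SlicesFour S (formFour L f) := fun f hf =>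
    ⟨fun x => ⟨_, hmulL x hf, rfl⟩, fun w => ⟨_, ⟨_, hmulR w hf, rfl⟩, fun x y z => by
      rw [formFour_apply, formThree_apply, LinearMap.comp_apply, LinearMap.mulRight_apply, mul_assoc,
        mul_assoc]⟩⟩
  -- commutators
  have hK : commSpan J ≤ Submodule.span k {z | ∃ i j, z = e i * e j - e j * e i} ⊔ J ^ 3 :=
    commSpan_le hd.hJJ e he hgen _ (fun i h hh => hd.br_mem (he i) hh) (hd.mono (by omega) (by omega))
  have hQ : Skewish Q := by
    refine ⟨Module.finrank_fin_fun k, ?_⟩
    rintro _ ⟨f, hf, rfl⟩ hsym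
    have hf' : J ^ 3 ≤ LinearMap.ker f := fun w hw => (Submodule.mem_dualAnnihilator f).mp hf w hw
    have hc : Submodule.span k {z | ∃ i j, z = e i * e j - e j * e i} ≤ LinearMap.ker f :=
      Submodule.span_le.mpr (by
        rintro _ ⟨i, j, rfl⟩
        rw [SetLike.mem_coe, LinearMap.mem_ker, map_sub, sub_eq_zero, ← hLe, ← hLe]
        exact hsym _ _)
    have h2 : J ^ 2 ≤ LinearMap.ker f := (hlayers 2 le_rfl (by omega)).trans
      (sup_le (hK.trans (sup_le hc hf')) hf')
    exact LinearMap.ext fun x => LinearMap.ext fun y => h2 (mul_mem_two (hLJ x) (hLJ y))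
  -- two independent trilinear forms
  obtain ⟨T, hT, hT0⟩ : ∃ T ∈ S, T ≠ 0 := by
    by_contra hcon
    push Not at hcon
    refine hno 3 (by omega) (by omega) (isLine_of_proportional _ hP3 (fun _ => 0) fun f hf => ⟨0, fun p => ?_⟩)
    have h0 := hcon _ ⟨f, (Submodule.mem_dualAnnihilator f).mpr fun w hw => hf hw, rfl⟩
    have := LinearMap.congr_fun (LinearMap.congr_fun (LinearMap.congr_fun h0 (Pi.single p.1 1))
      (Pi.single p.2.1 1)) (Pi.single p.2.2 1)
    rw [formThree_apply, hLe, hLe, hLe] at this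
    simpa using this
  obtain ⟨T', hT', hind⟩ : ∃ T' ∈ S, LinearIndependent k ![T, T'] := by
    by_contra hcon
    push Not at hcon
    refine hno 3 (by omega) (by omega) (isLine_of_proportional _ hP3
      (fun p => T (Pi.single p.1 1) (Pi.single p.2.1 1) (Pi.single p.2.2 1)) fun f hf => ?_)
    have hmem : formThree L f ∈ S := ⟨f, (Submodule.mem_dualAnnihilator f).mpr fun w hw => hf hw, rfl⟩
    have := hcon _ hmem
    rw [LinearIndependent.pair_iff' hT0] at this
    push Not at this
    obtain ⟨r, hr⟩ := this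
    refine ⟨r, fun p => ?_⟩
    have h' := LinearMap.congr_fun (LinearMap.congr_fun (LinearMap.congr_fun hr (Pi.single p.1 1))
      (Pi.single p.2.1 1)) (Pi.single p.2.2 1)
    rw [formThree_apply, hLe, hLe, hLe] at h'
    simpa using h'.symm
  rcases main hQ hS hT hT' hind with ⟨hQ3, T₁, hT₁, hne, hcyc⟩ | ⟨U₀, hU₀⟩
  · -- a cyclic form kills the cube
    obtain ⟨f, hf, rfl⟩ := hT₁
    have hf4 : J ^ 4 ≤ LinearMap.ker f := fun w hw => (Submodule.mem_dualAnnihilator f).mp hf w hw
    have hle : commSpan J ≤ Submodule.span k {z | ∃ i j, z = e i * e j - e j * e i} ⊔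
        (LinearMap.ker f ⊓ J ^ 3) := by
      refine commSpan_le hd.hJJ e he hgen _ (fun i h hh => ⟨?_, hd.br_mem (he i) hh⟩)
        (le_inf ((hd.mono (by omega) (by omega)).trans hf4) (hd.mono (by omega) (by omega)))
      have hker : J ^ 2 ≤ LinearMap.ker (f.comp (brL (k := k) (e i))) := by
        refine hP2.trans (sup_le (Submodule.span_le.mpr ?_) fun w hw => ?_)
        · rintro _ ⟨⟨j, l⟩, rfl⟩
          rw [SetLike.mem_coe, LinearMap.mem_ker, LinearMap.comp_apply, brL_apply, map_sub, sub_eq_zero]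
          dsimp only
          rw [mul_assoc, ← hLe i, ← hLe j, ← hLe l]
          exact hcyc _ _ _
        · rw [LinearMap.mem_ker, LinearMap.comp_apply, brL_apply]
          exact hf4 (Submodule.sub_mem _ (mul_mem_pow_add (mem_pow_one (he i)) hw)
            (mul_mem_pow_add hw (mem_pow_one (he i))))
      exact hker hh
    -- the three commutators of the generators are independent modulo the cube
    let ψ : Q →ₗ[k] (Fin 3 → k) :=
      { toFun := fun F => ![(F : Bil k (Fin 3 → k)) (Pi.single 0 1) (Pi.single 1 1) -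
            (F : Bil k (Fin 3 → k)) (Pi.single 1 1) (Pi.single 0 1),
          (F : Bil k (Fin 3 → k)) (Pi.single 0 1) (Pi.single 2 1) -
            (F : Bil k (Fin 3 → k)) (Pi.single 2 1) (Pi.single 0 1),
          (F : Bil k (Fin 3 → k)) (Pi.single 1 1) (Pi.single 2 1) -
            (F : Bil k (Fin 3 → k)) (Pi.single 2 1) (Pi.single 1 1)]
        map_add' := fun F G => by
          funext i; fin_cases i <;> simp <;> ring
        map_smul' := fun c F => by
          funext i; fin_cases i <;> simp <;> ring }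
    have hψ : Function.Injective ψ := (injective_iff_map_eq_zero ψ).mpr fun F hF => by
      have h0 := congrFun hF 0
      have h1 := congrFun hF 1
      have h2 := congrFun hF 2
      simp [ψ, sub_eq_zero] at h0 h1 h2
      exact Subtype.ext (hQ.ext_alt (Pi.basisFun k (Fin 3)) F.2 (by simpa using h0) (by simpa using h1)
        (by simpa using h2))
    have hsurj : Function.Surjective ψ := (LinearMap.injective_iff_surjective_of_finrank_eq_finrank
      (by rw [hQ3, Module.finrank_fin_fun])).mp hψ
    have hspan3 : Submodule.span k {z | ∃ i j, z = e i * e j - e j * e i} ≤ Submodule.span k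
        (Set.range ![e 0 * e 1 - e 1 * e 0, e 0 * e 2 - e 2 * e 0, e 1 * e 2 - e 2 * e 1]) := by
      refine Submodule.span_le.mpr ?_
      rintro _ ⟨i, j, rfl⟩
      have hm : ∀ t, ![e 0 * e 1 - e 1 * e 0, e 0 * e 2 - e 2 * e 0, e 1 * e 2 - e 2 * e 1] t ∈
          Submodule.span k (Set.range ![e 0 * e 1 - e 1 * e 0, e 0 * e 2 - e 2 * e 0,
            e 1 * e 2 - e 2 * e 1]) := fun t => Submodule.subset_span ⟨t, rfl⟩
      fin_cases i <;> fin_cases j <;>
        first
        | (rw [SetLike.mem_coe]; simp only [sub_self]; exact Submodule.zero_mem _)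
        | exact hm 0 | exact hm 1 | exact hm 2
        | (rw [SetLike.mem_coe, ← neg_mem_iff, neg_sub]; first | exact hm 0 | exact hm 1 | exact hm 2)
    refine hne (LinearMap.ext fun x => LinearMap.ext fun y => LinearMap.ext fun z => ?_)
    have h3 : J ^ 3 ≤ LinearMap.ker f := by
      intro w hw
      obtain ⟨κ, hκ, r, hr, rfl⟩ := Submodule.mem_sup.mp (hlayers 3 (by omega) (by omega) hw)
      obtain ⟨β, hβ, v, hv, rfl⟩ := Submodule.mem_sup.mp (hle hκ)
      have hβ3 : β ∈ J ^ 3 := by
        simpa using Submodule.sub_mem _ (Submodule.sub_mem _ hw (hd.mono (by omega) (show 3 ≤ 4 by omega) hr)) hv.2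
      obtain ⟨θ, hθ⟩ := (Submodule.mem_span_range_iff_exists_fun k).mp (hspan3 hβ)
      have hθ0 : ∀ t, θ t = 0 := by
        intro t
        obtain ⟨⟨F, g, hg, hgF⟩, hF⟩ := hsurj (Pi.single t 1)
        have hg0 : g β = 0 := (Submodule.mem_dualAnnihilator g).mp hg β hβ3
        have hval : ∀ i j, F (Pi.single i 1) (Pi.single j 1) = g (e i * e j) := fun i j => by
          rw [← hgF, formTwo_apply, hLe, hLe]
        have c0 := congrFun hF 0
        have c1 := congrFun hF 1
        have c2 := congrFun hF 2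
        simp [ψ, hval] at c0 c1 c2
        rw [← hθ] at hg0
        simp [Fin.sum_univ_three, c0, c1, c2] at hg0
        fin_cases t <;> simpa using hg0
      rw [LinearMap.mem_ker, map_add, map_add, ← hθ, LinearMap.mem_ker.mp hv.1,
        LinearMap.mem_ker.mp (hf4 hr)]
      simp [hθ0]
    have hxyz := mul_mem_pow_add (mem_pow_one (hLJ x)) (mul_mem_two (hLJ y) (hLJ z))
    exact h3 hxyz
  · refine hno 4 (by omega) le_rfl (isLine_of_proportional _ hP4
      (fun p => U₀ (Pi.single p.1 1) (Pi.single p.2.1 1) (Pi.single p.2.2.1 1) (Pi.single p.2.2.2 1))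
      fun f hf => ?_)
    obtain ⟨r, hr⟩ := hU₀ _ (hU f ((Submodule.mem_dualAnnihilator f).mpr fun w hw => hf hw))
    refine ⟨r, fun p => ?_⟩
    have h' := LinearMap.congr_fun (LinearMap.congr_fun (LinearMap.congr_fun (LinearMap.congr_fun hr
      (Pi.single p.1 1)) (Pi.single p.2.1 1)) (Pi.single p.2.2.1 1)) (Pi.single p.2.2.2 1)
    rw [formFour_apply, hLe, hLe, hLe, hLe] at h'
    simpa using h'

end Cfsg.Agent.BlockFive
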